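import Cfsg.Agent.Lib.Lie.SuzukiUnique.Frame
import Cfsg.Agent.Lib.Lie.ZassenhausSuzuki.Main
import Cfsg.Agent.Lib.Lie.SuzukiSp4
import Cfsg.Agent.Lib.Lead.SuzukiBinary
import Cfsg.Prelude.Def_Sz

/-!
Suzuki type Zassenhaus groups are determined by the order of their kernel.
-/

set_option autoImplicit false
set_option linter.style.haveILetI false
set_option linter.unusedSectionVars false

namespace Cfsg.Agent.Lie.SuzukiUnique

open MulAction
open Cfsg.Agent.Lie.ZassenhausSuzuki (SCtx)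
open Cfsg.Agent.Lie.ZassenhausCount

universe u v

variable {G : Type u} {Ω : Type v} [Group G] [MulAction G Ω] [Fintype Ω]

/-- A group of Suzuki type has a frame. -/
theorem exists_frame [Fintype G] [FaithfulSMul G Ω] {U : Subgroup G} {a b : Ω} {h e : ℕ}
    (X : SCtx G Ω U a b h e) {n : ℕ} (hn : Odd n) (hh : h = (2 ^ n) ^ 2) (he : e + 1 = 2 ^ n) :
    ∃ (φ : GaloisField 2 n ≃+* GaloisField 2 n) (r : ℕ) (e₀ : GaloisField 2 n)
      (co : GaloisField 2 n × GaloisField 2 n → G) (ka : (GaloisField 2 n)ˣ →* G) (w : G),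
      0 < r ∧ r < n ∧ (∀ x, φ x = x ^ 2 ^ r) ∧
      (∀ x y : GaloisField 2 n, x * φ x = y * φ y → x = y) ∧ Frame a b φ e₀ co ka w := by
  classical
  have hn0 : n ≠ 0 := hn.pos.ne'
  obtain ⟨φ, r, co, ka, hr0, hrn, hφ, hψ, hmul, hinj, hmem, hsurj, hkaK, hksurj, hconj⟩ :=
    exists_coords U (stabilizer G a ⊓ stabilizer G b) hn0 (fun k hk x hx => X.toCtx.conj_mem hk.1 hx) X.comm
      (fun k hk x hx hx1 hkx => X.free hk hx hx1 (mul_inv_eq_iff_eq_mul.2 hkx))
      (by rw [X.hcard, hh, sq]) (by rw [X.card_center, he]) (by rw [X.ecard]; omega) X.center_iff X.sq_center X.nab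
  have hco1 : co 0 0 = 1 := by
    have h1 := hmul 0 0 0 0
    simp only [map_zero, mul_zero, add_zero] at h1
    exact mul_eq_left.1 h1
  have hfix : ∀ x y, co x y • a = a := fun x y => X.hle (hmem x y)
  have hreg : ∀ x : Ω, x ≠ a → ∃ p : GaloisField 2 n × GaloisField 2 n, co p.1 p.2 • b = x := by
    have hbij : Function.Bijective fun k : U =>
        (⟨(k : G) • b, X.toCtx.smul_b_ne (X.hle k.2)⟩ : {x : Ω // x ≠ a}) := by
      refine (Nat.bijective_iff_injective_and_card _).2 ⟨fun k k' hkk =>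
        Subtype.ext (X.toCtx.orbit_inj k.2 k'.2 (congrArg Subtype.val hkk)), ?_⟩
      rw [X.hcard, Nat.card_eq_fintype_card, Fintype.card_subtype_compl, Fintype.card_subtype_eq, X.card,
        Nat.add_sub_cancel]
    intro x hx
    obtain ⟨k, hk⟩ := hbij.2 ⟨x, hx⟩
    obtain ⟨c, d, hcd⟩ := hsurj k k.2
    exact ⟨(c, d), by rw [hcd]; exact congrArg Subtype.val hk⟩
  obtain ⟨w, hwa, hwb⟩ := is_two_pretransitive_iff.1 X.h2 X.ab X.ab.symm
  obtain ⟨hww, hwk⟩ := X.swap w hwa hwb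
  have hwi : w⁻¹ = w := inv_eq_of_mul_eq_one_right hww
  have hwka : ∀ l, w * ka l * w = (ka l)⁻¹ := fun l => by
    have h1 := hwk _ (hkaK l)
    rwa [hwi] at h1
  -- the image of a central element
  set z := co 0 1 with hzdef
  have hzz : z * z = 1 := by rw [hzdef, hmul, ← hco1]; simp only [map_zero, mul_zero, add_zero, CharTwo.add_self_eq_zero]
  have hz1 : z ≠ 1 := fun h1 => one_ne_zero (hinj 0 1 0 0 (h1.trans hco1.symm)).2
  set g := w * z * w with hgdef
  have hgg : g * g = 1 := by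
    calc g * g = w * z * (w * w) * z * w := by rw [hgdef]; group
      _ = w * (z * z) * w := by rw [hww]; group
      _ = 1 := by rw [hzz, mul_one, hww]
  have hga : g • a ≠ a := fun h1 => by
    rw [hgdef, mul_smul, mul_smul, hwa] at h1
    have h2 : z • b = b := MulAction.injective w (h1.trans hwb.symm)
    exact X.ab (X.honly z (hmem 0 1) hz1 b h2).symm
  obtain ⟨p, hp⟩ := hreg _ hga
  set u := co p.1 p.2 with hudef
  have hua : u • a = a := hfix _ _
  obtain ⟨m, hm⟩ := hksurj (u⁻¹ * g * u * w) ⟨by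
      show (u⁻¹ * g * u * w) • a = a
      rw [mul_smul, hwa, mul_smul, mul_smul, hp, smul_smul g g, hgg, one_smul, inv_smul_eq_iff, hua], by
      show (u⁻¹ * g * u * w) • b = b
      rw [mul_smul, hwb, mul_smul, mul_smul, hua, ← hp, inv_smul_smul]⟩
  have hg : g = u * (ka m * w) * u⁻¹ := by
    calc g = u * (u⁻¹ * g * u * (w * w)) * u⁻¹ := by rw [hww]; group
      _ = _ := by rw [hm]; group
  obtain ⟨j, hj⟩ : ∃ j : (GaloisField 2 n)ˣ, j * j = m := by
    haveI := Fintype.ofFinite (GaloisField 2 n)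
    obtain ⟨x, hx⟩ := Finite.injective_iff_surjective.1
      (fun x y hxy => CharTwo.sq_injective hxy : Function.Injective fun x : GaloisField 2 n => x ^ 2) m
    have hx0 : x ≠ 0 := fun e' => by
      rw [e'] at hx
      exact m.ne_zero (hx.symm.trans (zero_pow two_ne_zero))
    exact ⟨Units.mk0 x hx0, Units.ext (by rw [Units.val_mul, Units.val_mk0, ← sq]; exact hx)⟩
  obtain ⟨β₁, hz1'⟩ : ∃ x, ka j * z * (ka j)⁻¹ = co 0 x := ⟨_, by rw [hzdef, hconj, mul_zero]⟩
  obtain ⟨α, β, hu1⟩ : ∃ x y, (ka j)⁻¹ * u * ka j = co x y := ⟨_, _, by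
    rw [hudef, ← hconj j⁻¹, map_inv, inv_inv]⟩
  set z1 := co 0 β₁ with hz1def
  set u1 := co α β with hu1def
  have hjw : w * (ka j)⁻¹ = ka j * w := by
    rw [← hwka]
    calc w * (w * ka j * w) = (w * w) * (ka j * w) := by group
      _ = _ := by rw [hww, one_mul]
  have hjm : ka j * w * (ka j)⁻¹ = ka m * w := by
    rw [mul_assoc, hjw, ← mul_assoc, ← map_mul, hj]
  have hzero : ∀ x c d, co 0 x * co c d = co c d * co 0 x := fun x c d => by
    rw [hmul, hmul]
    simp only [map_zero, zero_mul, mul_zero, zero_add, add_zero, add_comm]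
  have hcomm : z1 * u1 = u1 * z1 := hzero _ _ _
  have hz1z : z1 * z1 = 1 := by
    rw [hz1def, hmul, ← hco1]; simp only [map_zero, mul_zero, add_zero, CharTwo.add_self_eq_zero]
  have hfund : w * z1 * w = u1 * w * u1⁻¹ := by
    rw [← hz1', ← hu1]
    calc w * (ka j * z * (ka j)⁻¹) * w = w * ka j * z * ((ka j)⁻¹ * w) := by group
      _ = (w * ka j * w) * g * ka j := by
        rw [show (ka j)⁻¹ * w = w * ka j by rw [← hwka, mul_assoc, hww, mul_one], hgdef]
        calc w * ka j * z * (w * ka j) = w * ka j * (w * w) * z * (w * ka j) := by rw [hww, mul_one]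
          _ = _ := by group
      _ = (ka j)⁻¹ * (u * (ka j * w * (ka j)⁻¹) * u⁻¹) * ka j := by rw [hwka, hjm, ← hg]
      _ = _ := by group
  -- the product of the central element and the swap has order five
  set r' := z1 * w with hr'
  have hc1 : u1 * r' * u1⁻¹ = r' ^ 2 := by
    calc u1 * r' * u1⁻¹ = (u1 * z1) * w * u1⁻¹ := by rw [hr']; group
      _ = z1 * (u1 * w * u1⁻¹) := by rw [← hcomm]; group
      _ = z1 * (w * z1 * w) := by rw [hfund]
      _ = r' ^ 2 := by rw [hr', sq]; group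
  have huu : u1 * u1 = co 0 (φ α * α) := by
    rw [hu1def, hmul]; simp only [CharTwo.add_self_eq_zero, zero_add]
  have hc2 : (u1 * u1) * r' * (u1 * u1)⁻¹ = r' ^ 4 := by
    calc (u1 * u1) * r' * (u1 * u1)⁻¹ = u1 * (u1 * r' * u1⁻¹) * u1⁻¹ := by group
      _ = (u1 * r' * u1⁻¹) ^ 2 := by rw [conj_pow, ← hc1]
      _ = _ := by rw [hc1, ← pow_mul]
  have h15 : r' ^ 15 = 1 := by
    have h4 : (u1 * u1) * (u1 * u1) = 1 := by
      rw [huu, hmul, ← hco1]; simp only [map_zero, mul_zero, add_zero, CharTwo.add_self_eq_zero]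
    have h16 : r' = r' ^ 16 := by
      calc r' = (u1 * u1) * ((u1 * u1) * r' * (u1 * u1)⁻¹) * (u1 * u1)⁻¹ := by
            rw [inv_eq_of_mul_eq_one_right h4]
            calc r' = (u1 * u1) * (u1 * u1) * r' * ((u1 * u1) * (u1 * u1)) := by rw [h4, one_mul, mul_one]
              _ = _ := by group
        _ = ((u1 * u1) * r' * (u1 * u1)⁻¹) ^ 4 := by rw [conj_pow, ← hc2]
        _ = _ := by rw [hc2, ← pow_mul]
    exact mul_left_cancel (a := r') (by rw [← pow_succ', mul_one, ← h16])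
  have h3 : ¬ 3 ∣ Nat.card G := by
    rw [Nat.card_eq_fintype_card, card_group X.toOddCtx, Nat.dvd_iff_mod_eq_zero, hh]
    have hq : 2 ^ n % 3 = 2 := by
      obtain ⟨k, hk⟩ := hn
      rw [hk, pow_succ, pow_mul, Nat.mul_mod, Nat.pow_mod]
      norm_num
    have he3 : e % 3 = 1 := by omega
    have hh3 : ((2 ^ n) ^ 2) % 3 = 1 := by rw [Nat.pow_mod, hq]
    rw [Nat.mul_mod, Nat.mul_mod ((2 ^ n) ^ 2 + 1), Nat.add_mod, hh3, he3]
    norm_num
  have h5 : r' ^ 5 = 1 := by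
    by_contra hne
    haveI : Fact (Nat.Prime 3) := ⟨Nat.prime_three⟩
    exact h3 (orderOf_eq_prime (show (r' ^ 5) ^ 3 = 1 by rw [← pow_mul]; exact h15) hne ▸ orderOf_dvd_natCard _)
  have hsquare : u1 * u1 = z1 := by
    set d := z1 * (u1 * u1) with hd
    have hdr : d * r' * d⁻¹ = r' := by
      have hzr : z1 * r' * z1⁻¹ = r'⁻¹ := by
        rw [hr', mul_inv_rev, hwi, inv_eq_of_mul_eq_one_right hz1z, ← mul_assoc, hz1z, one_mul]
      calc d * r' * d⁻¹ = z1 * ((u1 * u1) * r' * (u1 * u1)⁻¹) * z1⁻¹ := by rw [hd]; group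
        _ = (z1 * r' * z1⁻¹) ^ 4 := by rw [hc2, conj_pow]
        _ = r' := by rw [hzr, inv_pow, inv_eq_of_mul_eq_one_right (show r' ^ 4 * r' = 1 by rw [← pow_succ, h5])]
    have hdz : d * z1 = z1 * d := by rw [hd, huu]; simp only [mul_assoc]; rw [hzero]
    have hdw : d * w = w * d := by
      calc d * w = d * z1 * r' := by rw [hr', mul_assoc d z1, ← mul_assoc z1 z1, hz1z, one_mul]
        _ = z1 * (d * r') := by rw [hdz, mul_assoc]
        _ = z1 * (r' * d) := by rw [mul_inv_eq_iff_eq_mul.1 hdr]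
        _ = w * d := by rw [hr', ← mul_assoc z1 (z1 * w) d, ← mul_assoc z1 z1 w, hz1z, one_mul]
    have hda : d • a = a := by rw [hd, huu, mul_smul, hfix, hfix]
    have hdb : d • b = b := by rw [← hwa, smul_smul, hdw, mul_smul, hda]
    have hd1 : d = 1 := by
      by_contra hne
      exact X.ab (X.honly d (U.mul_mem (hmem _ _) (huu ▸ hmem _ _)) hne b hdb).symm
    calc u1 * u1 = z1 * d := by rw [hd, ← mul_assoc, hz1z, one_mul]
      _ = z1 := by rw [hd1, mul_one]
  have hz1ne : z1 ≠ 1 := fun h1 => hz1 (conj_eq_one_iff.1 (hz1'.trans h1))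
  have hψα : φ α * α = β₁ := (hinj _ _ _ _ (huu ▸ hsquare : co 0 (φ α * α) = co 0 β₁)).2
  have hα : α ≠ 0 := fun e' => hz1ne (by rw [hz1def, ← hψα, e', mul_zero, hco1])
  -- rescale
  set t := ka (Units.mk0 α hα)⁻¹ with htdef
  have htz : t * z1 * t⁻¹ = co 0 1 := by
    rw [htdef, hz1def, hconj, mul_zero, ← hψα, Units.val_inv_eq_inv_val, Units.val_mk0, map_inv₀]
    congr 1
    have := (map_ne_zero_iff _ φ.injective).2 hα
    field_simp
  obtain ⟨e₀, htu⟩ : ∃ x, t * u1 * t⁻¹ = co 1 x := ⟨_, by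
    rw [htdef, hu1def, hconj, Units.val_inv_eq_inv_val, Units.val_mk0, inv_mul_cancel₀ hα]⟩
  have hKfix : ∀ l, ka l • a = a ∧ ka l • b = b := fun l => hkaK l
  have hti : ∀ c : Ω, t • c = c → t⁻¹ • c = c := fun c hc => inv_smul_eq_iff.2 hc.symm
  refine ⟨φ, r, e₀, fun q => co q.1 q.2, ka, t * w * t⁻¹, hr0, hrn, hφ, hψ, ?_⟩
  refine ⟨fun q q' => hmul _ _ _ _, fun q => hfix _ _, hreg, fun q q' hqq => ?_, X.ab, fun l q => hconj l q.1 q.2,
    fun l => (hKfix l).1, fun l => (hKfix l).2, ?_, ?_, fun l => ?_, fun g' hg' => ?_, ?_⟩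
  · obtain ⟨h1, h2⟩ := hinj _ _ _ _ (X.toCtx.orbit_inj (hmem _ _) (hmem _ _) hqq)
    exact Prod.ext h1 h2
  · rw [mul_smul, mul_smul, hti a (hKfix _).1, hwa, (hKfix _).2]
  · calc t * w * t⁻¹ * (t * w * t⁻¹) = t * (w * w) * t⁻¹ := by group
      _ = 1 := by rw [hww, mul_one, mul_inv_cancel]
  · calc t * w * t⁻¹ * ka l * (t * w * t⁻¹) = t * w * (t⁻¹ * ka l * t) * w * t⁻¹ := by group
      _ = t * (w * ka l * w) * t⁻¹ := by
        rw [htdef, map_inv, inv_inv, ← map_inv, ← map_mul, ← map_mul, mul_inv_cancel_comm]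
        group
      _ = (ka l)⁻¹ := by rw [hwka, htdef, ← map_inv, ← map_inv, ← map_mul, ← map_mul, mul_inv_cancel_comm]
  · have hne : g' • b ≠ a := X.toCtx.smul_b_ne hg'
    obtain ⟨q, hq⟩ := hreg _ hne
    obtain ⟨l, hl⟩ := hksurj ((co q.1 q.2)⁻¹ * g') ⟨by
      show ((co q.1 q.2)⁻¹ * g') • a = a
      rw [mul_smul, hg', inv_smul_eq_iff, hfix], by
      show ((co q.1 q.2)⁻¹ * g') • b = b
      rw [mul_smul, ← hq, inv_smul_smul]⟩
    exact ⟨q, l, by rw [hl, mul_inv_cancel_left]⟩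
  · show t * w * t⁻¹ * co 0 1 * (t * w * t⁻¹) = co 1 e₀ * (t * w * t⁻¹) * (co 1 e₀)⁻¹
    rw [← htz, ← htu]
    calc t * w * t⁻¹ * (t * z1 * t⁻¹) * (t * w * t⁻¹) = t * (w * z1 * w) * t⁻¹ := by group
      _ = _ := by rw [hfund]; group

/-- Iterates of a square root of the squaring map. -/
theorem iterate_sq {F : Type*} [Field F] (φ : F ≃+* F) (hφ : ∀ x, φ (φ x) = x * x) (k : ℕ) (x : F) :
    φ^[2 * k] x = x ^ 2 ^ k := by
  induction k generalizing x with
  | zero => simp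
  | succ k ih =>
    rw [show 2 * (k + 1) = 2 * k + 2 by ring, Function.iterate_add_apply, ih]
    show φ (φ x) ^ 2 ^ k = _
    rw [hφ, ← sq, ← pow_mul, pow_succ']

/-- A group of Suzuki type has a standard frame. -/
theorem exists_std_frame [Fintype G] [FaithfulSMul G Ω] {U : Subgroup G} {a b : Ω} {h e : ℕ}
    (X : SCtx G Ω U a b h e) {n : ℕ} (hn : Odd n) (hn1 : 1 < n) (hh : h = (2 ^ n) ^ 2) (he : e + 1 = 2 ^ n) :
    ∃ (φ : GaloisField 2 n ≃+* GaloisField 2 n) (f : GaloisField 2 n × GaloisField 2 n → GaloisField 2 n × GaloisField 2 n),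
      (∀ x, φ x = x ^ 2 ^ ((n + 1) / 2)) ∧ Eqs φ 0 f ∧ Nonempty (G ≃* Subgroup.closure (gens φ f)) := by
  classical
  haveI := Fintype.ofFinite (GaloisField 2 n)
  have hq : Fintype.card (GaloisField 2 n) = 2 ^ n := by
    rw [← Nat.card_eq_fintype_card, GaloisField.card 2 n (by omega)]
  have hirr : ∀ x : GaloisField 2 n, x * x + x + 1 ≠ 0 := fun x hx => by
    have hx3 : x ^ 3 = 1 := by linear_combination (x - 1) * hx
    have hx0 : x ≠ 0 := fun e' => by rw [e'] at hx; simp at hx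
    have h1 : x ^ (2 ^ n - 1) = 1 := hq ▸ FiniteField.pow_card_sub_one_eq_one x hx0
    have h3 : (2 ^ n - 1) % 3 = 1 := by
      have : 2 ^ n % 3 = 2 := by
        obtain ⟨k, hk⟩ := hn
        rw [hk, pow_succ, pow_mul, Nat.mul_mod, Nat.pow_mod]
        norm_num
      omega
    rw [← Nat.div_add_mod (2 ^ n - 1) 3, h3, pow_add, pow_mul, hx3, one_pow, one_mul, pow_one] at h1
    rw [h1, mul_one, CharTwo.add_self_eq_zero, zero_add] at hx
    exact one_ne_zero hx
  obtain ⟨φ, r, e₀, co, ka, w, hr0, hrn, hφ, hψ, hF⟩ := exists_frame X hn hh he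
  obtain ⟨φ', co', w', hψ', hper, hF'⟩ : ∃ (φ' : GaloisField 2 n ≃+* GaloisField 2 n)
      (co' : GaloisField 2 n × GaloisField 2 n → G) (w' : G),
      (∀ x y : GaloisField 2 n, x * φ' x = y * φ' y → x = y) ∧ (∀ x, φ'^[n] x = x) ∧
        Frame a b φ' 0 co' ka w' := by
    have hit : ∀ k x, φ^[k] x = x ^ 2 ^ (r * k) := fun k => by
      induction k with
      | zero => simp
      | succ k ih =>
        intro x
        rw [Function.iterate_succ_apply', ih, hφ, ← pow_mul, ← pow_add, Nat.mul_succ]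
    have hper : ∀ x, φ^[n] x = x := fun x => by
      rw [hit, mul_comm r n, pow_mul, ← hq, FiniteField.pow_card_pow]
    rcases (hF.eqs hψ hirr).param hn hn1 hq hr0 hrn hφ with he0 | he1
    · exact ⟨φ, co, w, hψ, hper, he0 ▸ hF⟩
    · refine ⟨φ.symm, _, w, fun x y hxy => ?_, fun x => ?_, hF.dual he1⟩
      · refine φ.symm.injective (hψ _ _ ?_)
        rw [φ.apply_symm_apply, φ.apply_symm_apply]
        linear_combination hxy
      · conv_lhs => rw [← hper x]
        exact Function.LeftInverse.iterate φ.symm_apply_apply n x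
  have hE := hF'.eqs hψ' hirr
  refine ⟨φ', hF'.inv, fun x => ?_, hE, hF'.model⟩
  obtain ⟨k, hk⟩ := hn
  rw [show (n + 1) / 2 = k + 1 by omega, ← iterate_sq φ' (hE.sq_root rfl)]
  conv_lhs => rw [← hper x]
  rw [← Function.iterate_succ_apply' φ', Nat.succ_eq_add_one, show n + 1 = 2 * (k + 1) by omega]

/-- Zassenhaus groups with a nonabelian two-group kernel give Suzuki contexts. -/
theorem exists_sctx [Finite G] [IsSimpleGroup G] (hZ : Cfsg.IsZassenhausGroup G Ω) {a b : Ω} (hab : a ≠ b)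
    (U : Subgroup G) (hle : U ≤ stabilizer G a) (hcard : Nat.card U + 1 = Fintype.card Ω)
    (honly : ∀ u ∈ U, u ≠ 1 → ∀ c : Ω, u • c = c → c = a) (hp2 : IsPGroup 2 U) (hna : ∃ u v : U, u * v ≠ v * u) :
    SCtx G Ω U a b (Nat.card U) (Nat.card ↥(stabilizer G a ⊓ stabilizer G b)) := by
  classical
  haveI := Fintype.ofFinite G
  obtain ⟨hF, h2, h3, hfix, -⟩ := id hZ
  haveI := hF
  set e := Nat.card ↥(stabilizer G a ⊓ stabilizer G b) with he
  set h := Nat.card U with hh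
  have hh2 : 2 ≤ h := by
    obtain ⟨u, v, huv⟩ := hna
    haveI : Nontrivial U := ⟨⟨u, 1, fun e' => huv (by rw [e', one_mul, mul_one])⟩⟩
    exact Finite.one_lt_card
  obtain ⟨k, hk⟩ := hp2.exists_card_eq
  have hheven : 2 ∣ h := by
    rw [hh, hk]
    refine dvd_pow_self 2 fun h0 => ?_
    rw [hh, hk, h0] at hh2
    omega
  have hedvd := Feit.stab_dvd (G := G) (Ω := Ω) h3 hab
  rw [← he, show Fintype.card Ω - 2 = h - 1 by omega] at hedvd
  have hodd : Odd e := by
    have : Odd (h - 1) := by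
      obtain ⟨j, hj⟩ := hheven
      exact ⟨j - 1, by omega⟩
    exact this.of_dvd_nat hedvd
  obtain ⟨-, hnorm⟩ := Cfsg.Agent.S0878.result hZ a U hle hcard honly
  have hbig : 2 * e < h - 1 := by
    by_contra hle'
    obtain ⟨hc, -⟩ := ZassenhausKernel.kernel_elementary hZ hab (by omega) U hle
      (Subgroup.normal_subgroupOf_of_le_normalizer (le_of_eq hnorm.symm))
      fun y z hy hz => Feit.kernel_orbit (Ne.symm hy) hle hcard honly z hz
    obtain ⟨u, v, huv⟩ := hna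
    exact huv (hc.is_comm.comm u v)
  obtain ⟨hcyc, -, -⟩ := ZassenhausOdd.cyclic_inverted h2 h3 hfix hab hodd
    (ZassenhausOdd.no_complement h2 hab hodd)
  exact { (oddCtx h2 h3 hfix hab hcard.symm he.symm hodd) with
    hle := hle, hcard := rfl, honly := honly, big := hbig, two_group := hp2, nab := hna, cyc := hcyc }

/-- The standard model of a Zassenhaus group of Suzuki type. -/
theorem exists_model [Finite G] [IsSimpleGroup G] (hZ : Cfsg.IsZassenhausGroup G Ω) {a b : Ω} (hab : a ≠ b)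
    (U : Subgroup G) (hle : U ≤ stabilizer G a) (hcard : Nat.card U + 1 = Fintype.card Ω)
    (honly : ∀ u ∈ U, u ≠ 1 → ∀ c : Ω, u • c = c → c = a) (hp2 : IsPGroup 2 U) (hna : ∃ u v : U, u * v ≠ v * u)
    {n : ℕ} (hU : Nat.card U = (2 ^ n) ^ 2) :
    ∃ (φ : GaloisField 2 n ≃+* GaloisField 2 n) (f : GaloisField 2 n × GaloisField 2 n → GaloisField 2 n × GaloisField 2 n),
      (∀ x, φ x = x ^ 2 ^ ((n + 1) / 2)) ∧ Eqs φ 0 f ∧ Nonempty (G ≃* Subgroup.closure (gens φ f)) := by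
  classical
  haveI := Fintype.ofFinite G
  haveI := hZ.1
  have X := exists_sctx hZ hab U hle hcard honly hp2 hna
  haveI := Fintype.ofFinite ↥(stabilizer G a)
  haveI := Fintype.ofFinite U
  have hsq := X.order_cases.resolve_right fun hc => X.false_of_cube hc
  obtain ⟨n', hnodd, hn1, hn'⟩ := X.exponent_odd hsq
  have hnn : n' = n := by
    rw [hn', hU] at hsq
    exact Nat.pow_right_injective le_rfl (Nat.pow_left_injective two_ne_zero hsq.symm)
  subst hnn
  exact exists_std_frame X hnodd hn1 hU hn'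

open Cfsg.Agent.Lie.Suzuki Cfsg.Agent.SzSolvable Cfsg.Agent.SzSubgroups in
/-- Zassenhaus groups with a nonabelian two-group kernel are Suzuki groups. -/
theorem iso_suzuki [Finite G] [IsSimpleGroup G] (hZ : Cfsg.IsZassenhausGroup G Ω) {a b : Ω} (hab : a ≠ b)
    (U : Subgroup G) (hle : U ≤ stabilizer G a) (hcard : Nat.card U + 1 = Fintype.card Ω)
    (honly : ∀ u ∈ U, u ≠ 1 → ∀ c : Ω, u • c = c → c = a) (hp2 : IsPGroup 2 U) (hna : ∃ u v : U, u * v ≠ v * u) :
    Cfsg.Lie.IsoSuzuki G := by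
  classical
  obtain ⟨n, hnodd, hn1, hΩ, -⟩ :=
    ZassenhausSuzuki.suzuki_data hZ hab U hle hcard honly hp2 hna
  have hU : Nat.card U = (2 ^ n) ^ 2 := by
    rw [Nat.card_eq_fintype_card (α := Ω), ← hcard] at hΩ
    rw [← pow_mul, mul_comm n 2]
    omega
  obtain ⟨φ, f, hφ, hE, ⟨i₁⟩⟩ := exists_model hZ hab U hle hcard honly hp2 hna hU
  obtain ⟨m, rfl⟩ := hnodd
  have hm : 1 ≤ m := by omega
  haveI := Fintype.ofFinite (GaloisField 2 (2 * m + 1))
  have hF : Fintype.card (GaloisField 2 (2 * m + 1)) = 2 ^ (2 * m + 1) := by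
    rw [← Nat.card_eq_fintype_card, GaloisField.card 2 _ (by omega)]
  haveI := sz_simple hF hm
  haveI := Fintype.ofFinite (Cfsg.suzukiOvoid (GaloisField 2 (2 * m + 1)) m)
  have hna' : ∃ u v : uSub (m := m) hF, u * v ≠ v * u := by
    obtain ⟨k, hk⟩ := exists_unit_ne_one hF hm
    refine ⟨⟨_, 1, 0, rfl⟩, ⟨_, (k : GaloisField 2 (2 * m + 1)), 0, rfl⟩, fun e => hk ?_⟩
    have e' := congrArg Subtype.val e
    simp only [Subgroup.coe_mul, tS_mul hF, one_pow, one_mul, zero_add, add_zero, mul_one] at e'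
    have h1 := (tM_injective (congrArg Subtype.val e')).2
    have h2 := congrArg (· ^ 2 ^ (m + 1)) h1
    simp only [sg_sg hF] at h2
    have h3 : (k : GaloisField 2 (2 * m + 1)) * 1 = (k : GaloisField 2 (2 * m + 1)) * k := by
      rw [mul_one, ← sq, ← h2]
      exact h1
    exact (mul_left_cancel₀ k.ne_zero h3).symm
  obtain ⟨φ', f', hφ', hE', ⟨i₂⟩⟩ := exists_model
    (zassenhaus hF hm) (a := (oInf : Cfsg.suzukiOvoid (GaloisField 2 (2 * m + 1)) m))
    (b := ⟨_, pt_mem (0 : GaloisField 2 (2 * m + 1)) 0⟩) (fun e => pt_ne_inf 0 0 (congrArg Subtype.val e).symm)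
    (uSub hF) (fun g hg => SzBinary.uSub_fix hF hm hg)
    (by rw [← Nat.card_eq_fintype_card, card_ovoid, card_uSub])
    (fun g hg hg1 c hc => SzBinary.uSub_fix_unique hF hm hg hg1 hc) (uSub_isPGroup hF) hna'
    (n := 2 * m + 1) (by rw [card_uSub, hF])
  obtain rfl : φ = φ' := RingEquiv.ext fun x => (hφ x).trans (hφ' x).symm
  obtain rfl := hE.unique hE'
  obtain ⟨i₃⟩ := lie_sz_equiv hF hm
  exact ⟨_, inferInstance, inferInstance, m, hm, hF, ⟨i₁.trans (i₂.symm.trans i₃)⟩⟩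

end Cfsg.Agent.Lie.SuzukiUnique
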