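import Cfsg.Agent.Lib.Lie.SuzukiSquare
import Mathlib.Algebra.CharP.Two

/-!
Coordinates on the kernel of a Suzuki type group which are compatible with the torus.
-/

set_option autoImplicit false
set_option linter.style.haveILetI false
set_option linter.unusedSectionVars false

namespace Cfsg.Agent.Lie.SuzukiUnique

open Cfsg.Agent.Lie.SuzukiSquare (exists_coord weight_two)

universe u

/-- A symmetric cocycle with vanishing diagonal on a finite field of characteristic two is a coboundary. -/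
theorem exists_split {F : Type*} [Field F] [Finite F] [CharP F 2] (γ : F → F → F)
    (hsym : ∀ a c, γ a c = γ c a) (hdiag : ∀ a, γ a a = 0) (h0 : ∀ a, γ a 0 = 0)
    (hco : ∀ a c v, γ a c + γ (a + c) v = γ c v + γ a (c + v)) :
    ∃ δ : F → F, ∀ a c, γ a c = δ (a + c) + δ a + δ c := by
  classical
  haveI := Fintype.ofFinite F
  suffices ∀ S : Finset F, ∃ W : AddSubgroup F, (∀ x ∈ S, x ∈ W) ∧
      ∃ δ : F → F, ∀ a ∈ W, ∀ c ∈ W, γ a c = δ (a + c) + δ a + δ c by
    obtain ⟨W, hW, δ, hδ⟩ := this Finset.univ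
    exact ⟨δ, fun a c => hδ a (hW a (Finset.mem_univ a)) c (hW c (Finset.mem_univ c))⟩
  intro S
  induction S using Finset.induction_on with
  | empty =>
    refine ⟨⊥, by simp, fun _ => 0, fun a ha c hc => ?_⟩
    rw [AddSubgroup.mem_bot] at ha hc
    rw [ha, hc, h0]
    simp
  | insert v S _ ih =>
    obtain ⟨W, hW, δ, hδ⟩ := ih
    by_cases hv : v ∈ W
    · exact ⟨W, fun x hx => (Finset.mem_insert.1 hx).elim (fun e => e ▸ hv) (hW x), δ, hδ⟩
    let W' : AddSubgroup F :=
      { carrier := {x | x ∈ W ∨ x + v ∈ W}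
        zero_mem' := Or.inl W.zero_mem
        add_mem' := fun {a c} ha hc => by
          rcases ha with ha | ha <;> rcases hc with hc | hc
          · exact Or.inl (W.add_mem ha hc)
          · exact Or.inr (by rw [add_assoc]; exact W.add_mem ha hc)
          · exact Or.inr (by rw [add_right_comm]; exact W.add_mem ha hc)
          · exact Or.inl (by
              have := W.add_mem ha hc
              rwa [show a + v + (c + v) = a + c by grind] at this)
        neg_mem' := fun {a} ha => by rwa [CharTwo.neg_eq] }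
    let δ' : F → F := fun x => if x ∈ W then δ x else δ (x + v) + γ (x + v) v
    have hin : ∀ x ∈ W, δ' x = δ x := fun x hx => if_pos hx
    have hout : ∀ x, x ∈ W → δ' (x + v) = δ x + γ x v := fun x hx => by
      have hn : x + v ∉ W := fun h => hv (by
        have := W.add_mem h hx
        rwa [show x + v + x = v by grind] at this)
      simp only [δ', if_neg hn, add_assoc, CharTwo.add_self_eq_zero, add_zero]
    refine ⟨W', fun x hx => ?_, δ', ?_⟩
    · rcases Finset.mem_insert.1 hx with rfl | hx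
      · exact Or.inr (by rw [CharTwo.add_self_eq_zero]; exact W.zero_mem)
      · exact Or.inl (hW x hx)
    intro a ha c hc
    rcases ha with ha | ha <;> rcases hc with hc | hc
    · rw [hin a ha, hin c hc, hin _ (W.add_mem ha hc), hδ a ha c hc]
    · obtain ⟨c', hc', rfl⟩ : ∃ c', c' ∈ W ∧ c = c' + v := ⟨c + v, hc, by grind⟩
      rw [← add_assoc, hin a ha, hout c' hc', hout _ (W.add_mem ha hc')]
      have := hδ a ha c' hc'
      have := hco a c' v
      grind
    · obtain ⟨a', ha', rfl⟩ : ∃ a', a' ∈ W ∧ a = a' + v := ⟨a + v, ha, by grind⟩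
      rw [show a' + v + c = a' + c + v by ring, hin c hc, hout a' ha', hout _ (W.add_mem ha' hc)]
      have := hδ a' ha' c hc
      have := hco c a' v
      have := hsym c a'
      have := hsym c (a' + v)
      have : c + a' = a' + c := add_comm c a'
      grind
    · obtain ⟨a', ha', rfl⟩ : ∃ a', a' ∈ W ∧ a = a' + v := ⟨a + v, ha, by grind⟩
      obtain ⟨c', hc', rfl⟩ : ∃ c', c' ∈ W ∧ c = c' + v := ⟨c + v, hc, by grind⟩
      rw [show a' + v + (c' + v) = a' + c' by grind, hout a' ha', hout c' hc', hin _ (W.add_mem ha' hc')]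
      have := hδ a' ha' c' hc'
      have := hco (a' + v) c' v
      have := hco v a' c'
      have := hco (a' + c') v v
      have := hsym v a'
      have := hsym v (a' + c')
      have := hdiag v
      have : v + a' = a' + v := add_comm v a'
      have : a' + v + c' = a' + c' + v := by ring
      have := h0 (a' + c')
      have : v + v = 0 := CharTwo.add_self_eq_zero v
      grind

variable {G : Type u} [Group G] [Finite G]

/-- Coordinates compatible with the torus. -/
theorem exists_coords (U K : Subgroup G) {n : ℕ} (hn0 : n ≠ 0) (hKN : ∀ k ∈ K, ∀ x ∈ U, k * x * k⁻¹ ∈ U)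
    (hKc : ∀ k ∈ K, ∀ l ∈ K, k * l = l * k) (hfree : ∀ k ∈ K, ∀ x ∈ U, x ≠ 1 → k * x = x * k → k = 1)
    (hcU : Nat.card U = 2 ^ n * 2 ^ n) (hcZ : Nat.card (Subgroup.center U) = 2 ^ n)
    (hcK : Nat.card K = 2 ^ n - 1)
    (hZ : ∀ x : U, x ∈ Subgroup.center U ↔ x * x = 1) (hsq : ∀ x : U, x * x ∈ Subgroup.center U)
    (hnab : ∃ x y : U, x * y ≠ y * x) :
    ∃ (φ : GaloisField 2 n ≃+* GaloisField 2 n) (r : ℕ)
      (co : GaloisField 2 n → GaloisField 2 n → G) (ka : (GaloisField 2 n)ˣ →* G),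
      0 < r ∧ r < n ∧ (∀ x, φ x = x ^ 2 ^ r) ∧
      (∀ a c : GaloisField 2 n, a * φ a = c * φ c → a = c) ∧
      (∀ a b c d, co a b * co c d = co (a + c) (b + d + φ a * c)) ∧
      (∀ a b c d, co a b = co c d → a = c ∧ b = d) ∧ (∀ a b, co a b ∈ U) ∧
      (∀ x ∈ U, ∃ a b, co a b = x) ∧ (∀ l, ka l ∈ K) ∧ (∀ k ∈ K, ∃ l, ka l = k) ∧
      (∀ (l : (GaloisField 2 n)ˣ) (a b : GaloisField 2 n),
        ka l * co a b * (ka l)⁻¹ = co ((l : GaloisField 2 n) * a) ((l : GaloisField 2 n) * φ l * b)) := by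
  classical
  haveI : Fact (Nat.Prime 2) := ⟨Nat.prime_two⟩
  letI : CommGroup K := { (inferInstance : Group K) with mul_comm := fun a b => Subtype.ext (hKc a a.2 b b.2) }
  set Z := Subgroup.center U with hZdef
  haveI : Z.Normal := by rw [hZdef]; infer_instance
  have hcen : ∀ z ∈ Z, ∀ x : U, x * z = z * x := fun z hz x => Subgroup.mem_center_iff.1 hz x
  have h2n : 2 ≤ 2 ^ n := le_trans (by norm_num) (Nat.pow_le_pow_right two_pos (Nat.one_le_iff_ne_zero.2 hn0))
  -- the torus as automorphisms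
  let aU : K →* MulAut U :=
    { toFun := fun k =>
        { toFun := fun x => ⟨(k : G) * x * (k : G)⁻¹, hKN k k.2 x x.2⟩
          invFun := fun x => ⟨(k : G)⁻¹ * x * ((k : G)⁻¹)⁻¹, hKN _ (inv_mem k.2) x x.2⟩
          left_inv := fun x => Subtype.ext (by simp [mul_assoc])
          right_inv := fun x => Subtype.ext (by simp [mul_assoc])
          map_mul' := fun x y => Subtype.ext (by simp [mul_assoc]) }
      map_one' := MulEquiv.ext fun x => Subtype.ext (by simp)
      map_mul' := fun k l => MulEquiv.ext fun x => Subtype.ext (by simp [mul_assoc]) }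
  have hfreeU : ∀ (k : K) (x : U), x ≠ 1 → aU k x = x → k = 1 := fun k x hx h => Subtype.ext
    (hfree k k.2 x x.2 (fun e => hx (Subtype.ext e)) (mul_inv_eq_iff_eq_mul.1 (congrArg Subtype.val h)))
  have hkZ : ∀ (k : K) (x : U), x ∈ Z → aU k x ∈ Z := fun k x hx => by
    rw [hZ] at hx ⊢
    rw [← map_mul, hx, map_one]
  let actZ : K →* MulAut Z :=
    { toFun := fun k =>
        { toFun := fun z => ⟨aU k z, hkZ k z z.2⟩
          invFun := fun z => ⟨aU k⁻¹ z, hkZ k⁻¹ z z.2⟩
          left_inv := fun z => Subtype.ext (by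
            show aU k⁻¹ (aU k z) = z
            rw [← MulAut.mul_apply, ← map_mul, inv_mul_cancel, map_one, MulAut.one_apply])
          right_inv := fun z => Subtype.ext (by
            show aU k (aU k⁻¹ z) = z
            rw [← MulAut.mul_apply, ← map_mul, mul_inv_cancel, map_one, MulAut.one_apply])
          map_mul' := fun z w => Subtype.ext (map_mul (aU k) z.1 w.1) }
      map_one' := MulEquiv.ext fun z => Subtype.ext (by
        show aU 1 z.1 = z.1
        rw [map_one, MulAut.one_apply])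
      map_mul' := fun k l => MulEquiv.ext fun z => Subtype.ext (by
        show aU (k * l) z.1 = aU k (aU l z.1)
        rw [map_mul, MulAut.mul_apply]) }
  have hmapZ : ∀ k : K, Z.map (aU k).toMonoidHom = Z := fun k => le_antisymm
    (by rintro _ ⟨z, hz, rfl⟩; exact hkZ k z hz)
    (fun z hz => ⟨aU k⁻¹ z, hkZ _ z hz, by
      show aU k (aU k⁻¹ z) = z
      rw [← MulAut.mul_apply, ← map_mul, mul_inv_cancel, map_one, MulAut.one_apply]⟩)
  let actV : K →* MulAut (U ⧸ Z) :=
    { toFun := fun k => QuotientGroup.congr Z Z (aU k) (hmapZ k)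
      map_one' := MulEquiv.ext fun x => by
        induction x using QuotientGroup.induction_on with
        | H x => show ((aU 1 x : U) : U ⧸ Z) = x; rw [map_one]; rfl
      map_mul' := fun k l => MulEquiv.ext fun x => by
        induction x using QuotientGroup.induction_on with
        | H x => show ((aU (k * l) x : U) : U ⧸ Z) = ((aU k (aU l x) : U) : U ⧸ Z); rw [map_mul]; rfl }
  have hVsq : ∀ x : U ⧸ Z, x * x = 1 := fun x => by
    induction x using QuotientGroup.induction_on with
    | H x => exact (QuotientGroup.eq_one_iff _).2 (hsq x)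
  letI : CommGroup (U ⧸ Z) := { (inferInstance : Group (U ⧸ Z)) with
    mul_comm := fun a b => by
      have hinv : ∀ x : U ⧸ Z, x⁻¹ = x := fun x => inv_eq_of_mul_eq_one_right (hVsq x)
      calc a * b = (a * b)⁻¹ := (hinv _).symm
        _ = b⁻¹ * a⁻¹ := mul_inv_rev a b
        _ = b * a := by rw [hinv, hinv] }
  letI : CommGroup Z := { (inferInstance : Group Z) with
    mul_comm := fun a b => Subtype.ext (hcen b.1 b.2 a.1) }
  have hZsq : ∀ z : Z, z * z = 1 := fun z => Subtype.ext ((hZ _).1 z.2)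
  have hcV : Nat.card (U ⧸ Z) = 2 ^ n := by
    have h := Subgroup.card_eq_card_quotient_mul_card_subgroup Z
    rw [hcU, hcZ] at h
    exact (Nat.eq_of_mul_eq_mul_right (by omega) h).symm
  -- regular actions
  have hregular : ∀ {E : Type u} [CommGroup E] [Finite E] (act : K →* MulAut E), Nat.card E = 2 ^ n →
      (∀ (k : K) (x : E), x ≠ 1 → act k x = x → k = 1) →
      ∀ x y : E, x ≠ 1 → y ≠ 1 → ∃ k, act k x = y := by
    intro E _ _ act hcE hf x y hx hy
    let ι : K → {z : E // z ≠ 1} := fun k => ⟨act k x, fun h => hx ((act k).injective (h.trans (map_one _).symm))⟩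
    have hinj : Function.Injective ι := fun k l h => by
      have h' : act k x = act l x := congrArg Subtype.val h
      refine (inv_mul_eq_one.1 (hf (l⁻¹ * k) x hx ?_)).symm
      rw [map_mul, MulAut.mul_apply, h', ← MulAut.mul_apply, ← map_mul, inv_mul_cancel, map_one, MulAut.one_apply]
    have hcard : Nat.card {z : E // z ≠ 1} = Nat.card K := by
      haveI := Fintype.ofFinite E
      rw [Nat.card_eq_fintype_card, Fintype.card_subtype_compl, Fintype.card_subtype_eq, hcK,
        ← Nat.card_eq_fintype_card, hcE]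
    obtain ⟨k, hk⟩ := ((Nat.bijective_iff_injective_and_card ι).2 ⟨hinj, hcard.symm⟩).2 ⟨y, hy⟩
    exact ⟨k, congrArg Subtype.val hk⟩
  have hfreeZ : ∀ (k : K) (z : Z), z ≠ 1 → actZ k z = z → k = 1 := fun k z hz h =>
    hfreeU k z (fun e => hz (Subtype.ext e)) (congrArg Subtype.val h)
  have hsqmul : ∀ (p : U) (z : U), z ∈ Z → p * z * (p * z) = p * p := fun p z hz => by
    calc p * z * (p * z) = p * (z * p) * z := by group
      _ = p * (p * z) * z := by rw [hcen z hz p]
      _ = p * p * (z * z) := by group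
      _ = p * p := by rw [(hZ z).1 hz, mul_one]
  have hfreeV : ∀ (k : K) (x : U ⧸ Z), x ≠ 1 → actV k x = x → k = 1 := fun k x hx h => by
    induction x using QuotientGroup.induction_on with
    | H x =>
      have h' : ((aU k x : U) : U ⧸ Z) = x := h
      rw [QuotientGroup.eq] at h'
      have hx' : x ∉ Z := fun e => hx ((QuotientGroup.eq_one_iff x).2 e)
      refine hfreeU k (x * x) (fun e => hx' ((hZ x).2 e)) ?_
      rw [map_mul]
      conv_rhs => rw [show x = aU k x * ((aU k x)⁻¹ * x) by group]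
      exact (hsqmul _ _ h').symm
  obtain ⟨eV, mV, heV, hmV⟩ := exists_coord actV hVsq hn0 hcV (hregular actV hcV hfreeV)
  obtain ⟨eZ, mZ, heZ, hmZ⟩ := exists_coord actZ hZsq hn0 hcZ (hregular actZ hcZ hfreeZ)
  letI : Fintype (GaloisField 2 n) := Fintype.ofFinite _
  have hqcard : Fintype.card (GaloisField 2 n) = 2 ^ n := by
    rw [← Nat.card_eq_fintype_card, GaloisField.card 2 n hn0]
  let X : U → GaloisField 2 n := fun p => Multiplicative.toAdd (eV (p : U ⧸ Z))
  let ζ : Z → GaloisField 2 n := fun z => Multiplicative.toAdd (eZ z)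
  have hXmul : ∀ p q, X (p * q) = X p + X q := fun p q => by
    simp only [X]; rw [QuotientGroup.mk_mul, map_mul]; rfl
  have hζmul : ∀ a b, ζ (a * b) = ζ a + ζ b := fun a b => by simp only [ζ]; rw [map_mul]; rfl
  have hX0 : ∀ p, X p = 0 ↔ p ∈ Z := fun p => by
    simp only [X]; rw [toAdd_eq_zero, map_eq_one_iff _ eV.injective, QuotientGroup.eq_one_iff]
  have hXk : ∀ (k : K) p, X (aU k p) = mV k * X p := fun k p => heV k (p : U ⧸ Z)
  have hζk : ∀ (k : K) z, ζ (actZ k z) = mZ k * ζ z := fun k z => heZ k z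
  have hζinj : Function.Injective ζ := fun a b h => eZ.injective (Multiplicative.toAdd.injective h)
  choose pre hpre using fun t : GaloisField 2 n => (show ∃ p : U, X p = t from by
    obtain ⟨p, hp⟩ := QuotientGroup.mk_surjective (eV.symm (Multiplicative.ofAdd t))
    exact ⟨p, by simp only [X]; rw [hp, eV.apply_symm_apply]; rfl⟩)
  let sq : U → Z := fun p => ⟨p * p, hsq p⟩
  let Q : GaloisField 2 n → GaloisField 2 n := fun t => ζ (sq (pre t))
  have hQ : ∀ p, ζ (sq p) = Q (X p) := fun p => by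
    refine congrArg ζ (Subtype.ext ?_)
    show p * p = pre (X p) * pre (X p)
    have hw : (pre (X p))⁻¹ * p ∈ Z := by
      rw [← QuotientGroup.eq]; exact eV.injective (Multiplicative.toAdd.injective (hpre (X p)))
    conv_lhs => rw [show p = pre (X p) * ((pre (X p))⁻¹ * p) by group]
    exact hsqmul _ _ hw
  have hQ0 : Q 0 = 0 := by
    have h := hQ 1
    rw [show X 1 = 0 from (hX0 1).2 (one_mem _)] at h
    rw [← h, show sq 1 = 1 from Subtype.ext (mul_one 1)]; simp [ζ]
  have hQne : ∀ t, t ≠ 0 → Q t ≠ 0 := fun t ht h => ht (by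
    have h1 : sq (pre t) = 1 := hζinj (h.trans (by simp [ζ]))
    rw [← hpre t, hX0, hZ]
    exact congrArg Subtype.val h1)
  have hQk : ∀ (k : K) t, Q (mV k * t) = mZ k * Q t := fun k t => by
    obtain ⟨p, rfl⟩ : ∃ p, X p = t := ⟨_, hpre t⟩
    rw [← hXk, ← hQ, ← hQ, show sq (aU k p) = actZ k (sq p) from Subtype.ext (map_mul (aU k) p p).symm]
    exact hζk k _
  obtain ⟨p1, hp1⟩ : ∃ p : U, X p = 1 := ⟨_, hpre 1⟩
  have hm1 : ∀ k, mV k = 1 → k = 1 := fun k h => by
    refine hfreeV k (p1 : U ⧸ Z) (fun e => one_ne_zero (α := GaloisField 2 n) ?_) ?_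
    · rw [← hp1]; exact (hX0 p1).2 ((QuotientGroup.eq_one_iff _).1 e)
    · exact eV.injective (Multiplicative.toAdd.injective ((heV k _).trans (by rw [h, one_mul])))
  have hmmul : ∀ k l, mV (k * l) = mV k * mV l := fun k l => by
    have := hXk (k * l) p1
    rw [map_mul, MulAut.mul_apply, hXk, hXk, hp1, mul_one, mul_one] at this
    exact this.symm
  have hmne : ∀ k, mV k ≠ 0 := fun k h => by
    have := hXk k p1
    rw [h, zero_mul, hX0] at this
    refine one_ne_zero (α := GaloisField 2 n) ?_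
    rw [← hp1, hX0]
    have h2 := hkZ k⁻¹ _ this
    rwa [← MulAut.mul_apply, ← map_mul, inv_mul_cancel, map_one, MulAut.one_apply] at h2
  have hminj : Function.Injective mV := fun k l h => by
    refine (inv_mul_eq_one.1 (hm1 (l⁻¹ * k) ?_)).symm
    rw [hmmul, h, ← hmmul, inv_mul_cancel]
    have := hXk 1 p1
    rw [map_one, MulAut.one_apply, hp1, mul_one] at this
    exact this.symm
  let mu : K →* (GaloisField 2 n)ˣ :=
    MonoidHom.mk' (fun k => Units.mk0 (mV k) (hmne k)) fun k l => Units.ext (hmmul k l)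
  have hmub : Function.Bijective mu := ⟨fun k l h => hminj (congrArg Units.val h), fun l => by
    obtain ⟨k, hk⟩ := hmV l l.ne_zero
    exact ⟨k, Units.ext hk⟩⟩
  let km : (GaloisField 2 n)ˣ →* K := (MulEquiv.ofBijective mu hmub).symm.toMonoidHom
  have hkm : ∀ l, mV (km l) = l := fun l => congrArg Units.val ((MulEquiv.ofBijective mu hmub).apply_symm_apply l)
  set c₀ := Q 1 with hc₀
  have hc0 : c₀ ≠ 0 := hQne 1 one_ne_zero
  let q' : GaloisField 2 n → GaloisField 2 n := fun t => Q t / c₀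
  have hq'mul : ∀ s t, q' (s * t) = q' s * q' t := fun s t => by
    by_cases hs : s = 0
    · simp [q', hs, hQ0]
    obtain ⟨k, rfl⟩ := hmV s hs
    have h1 : Q (mV k) = mZ k * c₀ := by rw [hc₀, ← hQk k 1, mul_one]
    simp only [q', hQk, h1]; field_simp
  have hq'1 : q' 1 = 1 := div_self hc0
  have hQinj : Function.Injective Q := fun s t h => by
    by_contra hne
    rcases eq_or_ne s 0 with rfl | hs
    · exact hQne t (Ne.symm hne) (h.symm.trans hQ0)
    rcases eq_or_ne t 0 with rfl | ht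
    · exact hQne s hs (h.trans hQ0)
    obtain ⟨k, hk⟩ := hmV (t / s) (div_ne_zero ht hs)
    have h1 : Q t = mZ k * Q s := by rw [← hQk, hk, div_mul_cancel₀ _ hs]
    rw [h] at h1
    have hmz : mZ k = 1 := mul_right_cancel₀ (hQne t ht) (h1.symm.trans (one_mul _).symm)
    have hz1 : sq (pre s) ≠ 1 := fun e => hQne s hs (by simp only [Q, e]; simp [ζ])
    have hk1 : k = 1 := hfreeZ k _ hz1 (hζinj (by rw [hζk, hmz, one_mul]))
    have hone : mV 1 = 1 := by
      have := hXk 1 p1
      rw [map_one, MulAut.one_apply, hp1, mul_one] at this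
      exact this.symm
    rw [hk1, hone] at hk
    exact hne ((div_eq_one_iff_eq hs).1 hk.symm).symm
  have hq'inj : Function.Injective q' := fun s t h => hQinj ((div_left_inj' hc0).1 h)
  have hq'0 : q' 0 = 0 := by simp [q', hQ0]
  obtain ⟨g, hg⟩ := IsCyclic.exists_generator (α := (GaloisField 2 n)ˣ)
  obtain ⟨m0, hm0⟩ : ∃ m0 : ℕ, q' (g : GaloisField 2 n) = (g : GaloisField 2 n) ^ m0 := by
    have hne : q' (g : GaloisField 2 n) ≠ 0 := fun h => g.ne_zero (hq'inj (h.trans hq'0.symm))
    obtain ⟨j, hj⟩ := (mem_powers_iff_mem_zpowers).2 (hg (Units.mk0 _ hne))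
    exact ⟨j, by rw [← Units.val_pow_eq_pow_val]; exact (congrArg Units.val hj).symm⟩
  set m := if m0 % (2 ^ n - 1) = 0 then 2 ^ n - 1 else m0 % (2 ^ n - 1) with hm
  have hgq : (g : GaloisField 2 n) ^ (2 ^ n - 1) = 1 := by
    rw [← hqcard]; exact FiniteField.pow_card_sub_one_eq_one _ g.ne_zero
  have hgm : q' (g : GaloisField 2 n) = (g : GaloisField 2 n) ^ m := by
    rw [hm0]; conv_lhs => rw [← Nat.mod_add_div m0 (2 ^ n - 1), pow_add, pow_mul, hgq, one_pow, mul_one]
    rw [hm]
    split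
    · next h => rw [h, pow_zero, hgq]
    · rfl
  have hmne : m ≠ 0 := by rw [hm]; split <;> omega
  have hmlt : m < Fintype.card (GaloisField 2 n) := by
    rw [hqcard, hm]
    have := Nat.mod_lt m0 (show 0 < 2 ^ n - 1 by omega)
    split <;> omega
  have hQm : ∀ t, Q t = c₀ * t ^ m := fun t => by
    rw [show Q t = c₀ * q' t by simp [q', mul_div_cancel₀ _ hc0]]
    congr 1
    by_cases ht : t = 0
    · rw [ht, hq'0, zero_pow hmne]
    obtain ⟨j, hj⟩ := (mem_powers_iff_mem_zpowers).2 (hg (Units.mk0 t ht))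
    have hj' : (g : GaloisField 2 n) ^ j = t := by rw [← Units.val_pow_eq_pow_val]; exact congrArg Units.val hj
    rw [← hj']
    clear hj hj'
    induction j with
    | zero => simp [hq'1]
    | succ j ih => rw [pow_succ, hq'mul, ih, hgm, ← mul_pow]
  -- the commutator is biadditive
  have hcomZ : ∀ p q : U, p⁻¹ * q * p * q⁻¹ ∈ Z := fun p q => by
    rw [← QuotientGroup.eq_one_iff]
    simp only [QuotientGroup.mk_mul, QuotientGroup.mk_inv]
    rw [mul_comm ((p : U ⧸ Z))⁻¹, mul_assoc (q : U ⧸ Z), inv_mul_cancel, mul_one, mul_inv_cancel]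
  let com : U → U → Z := fun y z => ⟨y⁻¹ * z * y * z⁻¹, hcomZ y z⟩
  have hB : ∀ p q, Q (X p + X q) = Q (X p) + Q (X q) + ζ (com p q) := fun p q => by
    have hsp : sq (p * q) = sq p * (com p q * sq q) := Subtype.ext (by
      show p * q * (p * q) = p * p * (p⁻¹ * q * p * q⁻¹ * (q * q))
      group)
    rw [← hXmul, ← hQ, ← hQ, ← hQ, hsp, hζmul, hζmul]
    ring
  have hcr : ∀ p q r, com p (q * r) = com p q * com p r := fun p q r => Subtype.ext (by
    show p⁻¹ * (q * r) * p * (q * r)⁻¹ = p⁻¹ * q * p * q⁻¹ * (p⁻¹ * r * p * r⁻¹)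
    have h : q⁻¹ * (p⁻¹ * r * p * r⁻¹) = p⁻¹ * r * p * r⁻¹ * q⁻¹ := hcen _ (com p r).2 q⁻¹
    rw [mul_assoc (p⁻¹ * q * p), h]
    group)
  have hD : ∀ r s t : GaloisField 2 n,
      (r + s + t) ^ m + (r + s) ^ m + (r + t) ^ m + (s + t) ^ m + r ^ m + s ^ m + t ^ m = 0 := by
    intro r s t
    obtain ⟨a, rfl⟩ : ∃ p, X p = r := ⟨_, hpre r⟩
    obtain ⟨b, rfl⟩ : ∃ p, X p = s := ⟨_, hpre s⟩
    obtain ⟨d, rfl⟩ : ∃ p, X p = t := ⟨_, hpre t⟩
    have h1 := hB a (b * d)
    rw [hXmul, ← add_assoc, hcr, hζmul, hB b d] at h1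
    have h2 := hB a b
    have h3 := hB a d
    have h4 := hB b d
    simp only [hQm] at h1 h2 h3 h4
    refine (mul_right_inj' hc0).1 ?_
    rw [mul_zero]
    linear_combination h1 + h2 + h3 + h4 + (2 * (c₀ * (X a) ^ m + c₀ * (X b) ^ m + c₀ * (X d) ^ m) + ζ (com a b) + ζ (com a d) + ζ (com b d)) * (CharTwo.two_eq_zero (R := GaloisField 2 n))
  have hnotadd : ¬ ∀ s t, Q (s + t) = Q s + Q t := fun h => by
    obtain ⟨x, y, hxy⟩ := hnab
    have h1 := hB x y
    rw [h, left_eq_add] at h1
    have h2 : com x y = 1 := hζinj (h1.trans (by simp [ζ]))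
    have h3 : x⁻¹ * y * x * y⁻¹ = 1 := congrArg Subtype.val h2
    rw [mul_inv_eq_one, mul_assoc, inv_mul_eq_iff_eq_mul] at h3
    exact hxy h3.symm
  rcases weight_two hmne hmlt hD with ⟨i, hi⟩ | ⟨i, j, hij, hi⟩
  · refine absurd (fun s t => ?_) hnotadd
    rw [hQm, hQm, hQm, hi, add_pow_char_pow, mul_add]
  have hjn : j < n := by
    rw [hqcard, hi] at hmlt
    exact (Nat.pow_lt_pow_iff_right (by norm_num)).1 (lt_of_le_of_lt (Nat.le_add_left _ _) hmlt)
  let φ : GaloisField 2 n ≃+* GaloisField 2 n := iterateFrobeniusEquiv (GaloisField 2 n) 2 (j - i)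
  have hφ : ∀ t, φ t = t ^ 2 ^ (j - i) := fun t => iterateFrobeniusEquiv_def _ _ _ t
  have hmt : ∀ t : GaloisField 2 n, t ^ m = (t * φ t) ^ 2 ^ i := fun t => by
    rw [hφ, hi, mul_pow, ← pow_mul, ← pow_add, ← pow_add, Nat.sub_add_cancel hij.le]
  have hψinj : ∀ a c : GaloisField 2 n, a * φ a = c * φ c → a = c := fun a c h =>
    hQinj (by rw [hQm, hQm, hmt, hmt, h])
  -- the renormalized coordinate on the centre
  let ρ : GaloisField 2 n ≃+* GaloisField 2 n := (iterateFrobeniusEquiv (GaloisField 2 n) 2 i).symm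
  have hρ : ∀ t, ρ (t ^ 2 ^ i) = t := fun t => by
    have h : iterateFrobeniusEquiv (GaloisField 2 n) 2 i t = t ^ 2 ^ i := iterateFrobeniusEquiv_def _ _ _ t
    rw [← h]
    exact (iterateFrobeniusEquiv (GaloisField 2 n) 2 i).symm_apply_apply t
  let η : Z → GaloisField 2 n := fun z => ρ (ζ z / c₀)
  have hηmul : ∀ a b, η (a * b) = η a + η b := fun a b => by
    simp only [η, hζmul, add_div, map_add]
  have hηinj : Function.Injective η := fun a b h => hζinj ((div_left_inj' hc0).1 (ρ.injective h))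
  have hηsq : ∀ p, η (sq p) = X p * φ (X p) := fun p => by
    simp only [η]
    rw [hQ, hQm, mul_div_cancel_left₀ _ hc0, hmt, hρ]
  have hηk : ∀ (l : (GaloisField 2 n)ˣ) z, η (actZ (km l) z) = (l : GaloisField 2 n) * φ l * η z := fun l z => by
    have h1 : mZ (km l) = ((l : GaloisField 2 n) * φ l) ^ 2 ^ i := by
      have h := hQk (km l) 1
      rw [mul_one, hkm, hQm, hQm, one_pow, mul_one, hmt] at h
      exact mul_right_cancel₀ hc0 (h.symm.trans (mul_comm _ _))
    simp only [η]
    rw [hζk, h1, mul_div_assoc, map_mul, hρ]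
  have hη1 : η 1 = 0 := by
    have := hηmul 1 1
    rw [one_mul, CharTwo.add_self_eq_zero] at this
    exact this
  -- a homogeneous section
  let σ : GaloisField 2 n → U := fun a => if h : a = 0 then 1 else aU (km (Units.mk0 a h)) p1
  have hσX : ∀ a, X (σ a) = a := fun a => by
    by_cases ha : a = 0
    · simp only [σ, dif_pos ha]; rw [ha]; exact (hX0 1).2 (one_mem _)
    · simp only [σ, dif_neg ha, hXk, hkm, hp1, mul_one, Units.val_mk0]
  have hσk : ∀ (l : (GaloisField 2 n)ˣ) a, aU (km l) (σ a) = σ ((l : GaloisField 2 n) * a) := fun l a => by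
    by_cases ha : a = 0
    · simp only [σ, dif_pos ha, map_one, dif_pos (show (l : GaloisField 2 n) * a = 0 by rw [ha, mul_zero])]
    · simp only [σ, dif_neg ha, dif_neg (mul_ne_zero l.ne_zero ha)]
      rw [← MulAut.mul_apply, ← map_mul, ← map_mul]
      congr 3
      exact Units.ext rfl
  have hσ0 : σ 0 = 1 := dif_pos rfl
  have hβmem : ∀ a c, (σ (a + c))⁻¹ * (σ a * σ c) ∈ Z := fun a c => by
    rw [← hX0]
    have h := hXmul (σ (a + c)) ((σ (a + c))⁻¹ * (σ a * σ c))
    rw [mul_inv_cancel_left, hXmul, hσX, hσX, hσX] at h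
    exact left_eq_add.1 h
  let β : GaloisField 2 n → GaloisField 2 n → GaloisField 2 n := fun a c => η ⟨_, hβmem a c⟩
  let w : GaloisField 2 n → GaloisField 2 n → Z := fun a c => ⟨_, hβmem a c⟩
  have hw : ∀ a c, σ a * σ c = σ (a + c) * (w a c : U) := fun a c => (mul_inv_cancel_left _ _).symm
  have hβ : ∀ a c, η (w a c) = β a c := fun a c => rfl
  have hβ0 : ∀ a, β a 0 = 0 := fun a => by
    rw [← hβ, show w a 0 = 1 from Subtype.ext (by
      show (σ (a + 0))⁻¹ * (σ a * σ 0) = 1
      rw [add_zero, hσ0, mul_one, inv_mul_cancel]), hη1]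
  have hβdiag : ∀ a, β a a = a * φ a := fun a => by
    have h1 : w a a = sq (σ a) := Subtype.ext (by
      show (σ (a + a))⁻¹ * (σ a * σ a) = σ a * σ a
      rw [CharTwo.add_self_eq_zero, hσ0, inv_one, one_mul])
    rw [← hβ, h1, hηsq, hσX]
  have hβco : ∀ a c v, β a c + β (a + c) v = β c v + β a (c + v) := fun a c v => by
    rw [← hβ, ← hβ, ← hβ, ← hβ, ← hηmul, ← hηmul]
    refine congrArg η (Subtype.ext (mul_left_cancel (a := σ (a + c + v)) ?_))
    show σ (a + c + v) * ((w a c : U) * (w (a + c) v : U)) = σ (a + c + v) * ((w c v : U) * (w a (c + v) : U))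
    calc σ (a + c + v) * ((w a c : U) * (w (a + c) v : U))
        = σ (a + c + v) * ((w (a + c) v : U) * (w a c : U)) := by rw [hcen _ (w a c).2 (w (a + c) v : U)]
      _ = σ (a + c) * σ v * (w a c : U) := by rw [← mul_assoc, ← hw]
      _ = σ (a + c) * ((w a c : U) * σ v) := by rw [mul_assoc, hcen _ (w a c).2 (σ v)]
      _ = σ a * σ c * σ v := by rw [← mul_assoc, ← hw]
      _ = σ a * (σ (c + v) * (w c v : U)) := by rw [mul_assoc, hw c v]
      _ = σ (a + (c + v)) * (w a (c + v) : U) * (w c v : U) := by rw [← mul_assoc, hw a (c + v)]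
      _ = σ (a + c + v) * ((w c v : U) * (w a (c + v) : U)) := by
        rw [← add_assoc, mul_assoc, hcen _ (w c v).2 (w a (c + v) : U)]
  have hβsym : ∀ a c, β a c + β c a = a * φ c + c * φ a := fun a c => by
    have hsplit : sq (σ a * σ c) = w c a * w a c * sq (σ a) * sq (σ c) := Subtype.ext (by
      show σ a * σ c * (σ a * σ c) = (w c a : U) * (w a c : U) * (σ a * σ a) * (σ c * σ c)
      have e1 : σ c * σ a = σ a * σ c * ((w a c : U)⁻¹ * (w c a : U)) := by
        rw [hw a c, hw c a, add_comm c a]; group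
      have hzc : ∀ p : U, p * ((w a c : U)⁻¹ * (w c a : U)) = ((w a c : U)⁻¹ * (w c a : U)) * p :=
        fun p => hcen _ (mul_mem (inv_mem (w a c).2) (w c a).2) p
      calc σ a * σ c * (σ a * σ c) = σ a * (σ c * σ a) * σ c := by group
        _ = σ a * (σ a * σ c * ((w a c : U)⁻¹ * (w c a : U))) * σ c := by rw [e1]
        _ = σ a * σ a * σ c * (((w a c : U)⁻¹ * (w c a : U)) * σ c) := by group
        _ = σ a * σ a * σ c * (σ c * ((w a c : U)⁻¹ * (w c a : U))) := by rw [← hzc (σ c)]
        _ = σ a * σ a * (σ c * σ c) * ((w a c : U)⁻¹ * (w c a : U)) := by group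
        _ = ((w a c : U)⁻¹ * (w c a : U)) * (σ a * σ a) * (σ c * σ c) := by rw [hzc]; group
        _ = _ := by
          rw [inv_eq_of_mul_eq_one_right ((hZ _).1 (w a c).2), hcen _ (w c a).2 (w a c : U)])
    have h := hηsq (σ a * σ c)
    rw [hsplit, hηmul, hηmul, hηmul, hηsq, hηsq, hXmul, hσX, hσX, map_add, hβ, hβ] at h
    linear_combination h
  let γ : GaloisField 2 n → GaloisField 2 n → GaloisField 2 n := fun a c => β a c + φ a * c
  obtain ⟨δ₀, hδ₀⟩ := exists_split γ
    (fun a c => by have := hβsym a c; simp only [γ]; grind)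
    (fun a => by have := hβdiag a; simp only [γ]; grind)
    (fun a => by simp only [γ, hβ0, mul_zero, add_zero])
    (fun a c v => by have := hβco a c v; simp only [γ, map_add]; grind)
  have hβk : ∀ (l : (GaloisField 2 n)ˣ) a c,
      β ((l : GaloisField 2 n) * a) ((l : GaloisField 2 n) * c) = (l : GaloisField 2 n) * φ l * β a c := fun l a c => by
    rw [← hβ, ← hβ, ← hηk]
    refine congrArg η (Subtype.ext ?_)
    show _ = aU (km l) ((σ (a + c))⁻¹ * (σ a * σ c))
    rw [map_mul, map_inv, map_mul, hσk, hσk, hσk, mul_add]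
  have hψne : ∀ l : (GaloisField 2 n)ˣ, (l : GaloisField 2 n) * φ l ≠ 0 := fun l =>
    mul_ne_zero l.ne_zero ((map_ne_zero_iff _ φ.injective).2 l.ne_zero)
  have hγk : ∀ (l : (GaloisField 2 n)ˣ) a c,
      γ ((l : GaloisField 2 n) * a) ((l : GaloisField 2 n) * c) = (l : GaloisField 2 n) * φ l * γ a c := fun l a c => by
    simp only [γ, hβk, map_mul]; ring
  let δ : GaloisField 2 n → GaloisField 2 n := fun a =>
    ∑ l : (GaloisField 2 n)ˣ, ((l : GaloisField 2 n) * φ l)⁻¹ * δ₀ ((l : GaloisField 2 n) * a)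
  have hδ : ∀ a c, γ a c = δ (a + c) + δ a + δ c := fun a c => by
    have h1 : δ (a + c) + δ a + δ c = ∑ _l : (GaloisField 2 n)ˣ, γ a c := by
      simp only [δ, ← Finset.sum_add_distrib]
      refine Finset.sum_congr rfl fun l _ => ?_
      rw [← mul_add, ← mul_add, mul_add (l : GaloisField 2 n), ← hδ₀, hγk, inv_mul_cancel_left₀ (hψne l)]
    have hodd : ((2 ^ n - 1 : ℕ) : GaloisField 2 n) = 1 := by
      rw [Nat.cast_sub Nat.one_le_two_pow, Nat.cast_pow, Nat.cast_ofNat, (CharTwo.two_eq_zero : (2 : GaloisField 2 n) = 0), zero_pow hn0,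
        Nat.cast_one, zero_sub, CharTwo.neg_eq]
    rw [h1, Finset.sum_const, Finset.card_univ, Fintype.card_units, hqcard, nsmul_eq_mul, hodd, one_mul]
  have hδk : ∀ (l : (GaloisField 2 n)ˣ) a, δ ((l : GaloisField 2 n) * a) = (l : GaloisField 2 n) * φ l * δ a := by
    intro l a
    simp only [δ, Finset.mul_sum]
    refine Fintype.sum_equiv (Equiv.mulRight l) _ _ fun k => ?_
    simp only [Equiv.coe_mulRight, Units.val_mul]
    rw [← mul_assoc (k : GaloisField 2 n) (l : GaloisField 2 n) a, ← mul_assoc _ _ (δ₀ _)]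
    congr 1
    rw [map_mul]
    have h1 := (map_ne_zero_iff _ φ.injective).2 l.ne_zero
    have h2 := (map_ne_zero_iff _ φ.injective).2 k.ne_zero
    have h3 := l.ne_zero
    have h4 := k.ne_zero
    field_simp
  obtain ⟨ι, hι⟩ : ∃ ι : GaloisField 2 n → Z, ∀ b, η (ι b) = b := by
    have hsurj : Function.Surjective η := ((Nat.bijective_iff_injective_and_card η).2
      ⟨hηinj, by rw [hcZ, GaloisField.card 2 n hn0]⟩).2
    exact ⟨_, Function.surjInv_eq hsurj⟩
  refine ⟨φ, j - i,
    fun a b => ((σ a * (ι (b + δ a) : U) : U) : G), K.subtype.comp km, by omega, by omega, hφ, hψinj,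
    fun a b c d => ?_, fun a b c d h => ?_, fun a b => SetLike.coe_mem _, fun x hx => ?_, fun l => (km l).2,
    fun k hk => ⟨mu ⟨k, hk⟩, congrArg Subtype.val ((MulEquiv.ofBijective mu hmub).symm_apply_apply ⟨k, hk⟩)⟩,
    fun l a b => ?_⟩
  · rw [← Subgroup.coe_mul]
    refine congrArg Subtype.val ?_
    calc σ a * (ι (b + δ a) : U) * (σ c * (ι (d + δ c) : U))
        = σ a * ((ι (b + δ a) : U) * σ c) * (ι (d + δ c) : U) := by group
      _ = σ a * (σ c * (ι (b + δ a) : U)) * (ι (d + δ c) : U) := by rw [hcen _ (ι (b + δ a)).2 (σ c)]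
      _ = σ (a + c) * ((w a c * ι (b + δ a) * ι (d + δ c) : Z) : U) := by
        rw [← mul_assoc (σ a), hw]; simp only [Subgroup.coe_mul, mul_assoc]
      _ = _ := by
        congr 2
        refine hηinj ?_
        rw [hηmul, hηmul, hι, hι, hι, hβ]
        have := hδ a c
        simp only [γ] at this
        grind
  · have h' : σ a * (ι (b + δ a) : U) = σ c * (ι (d + δ c) : U) := Subtype.ext h
    have hac : a = c := by
      have := congrArg X h'
      rwa [hXmul, hXmul, hσX, hσX, (hX0 _).2 (ι _).2, (hX0 _).2 (ι _).2, add_zero, add_zero] at this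
    subst hac
    have := congrArg η (Subtype.ext (mul_left_cancel h') : ι (b + δ a) = ι (d + δ a))
    rw [hι, hι] at this
    exact ⟨rfl, add_right_cancel this⟩
  · set p : U := ⟨x, hx⟩ with hp
    have hmem : (σ (X p))⁻¹ * p ∈ Z := by
      rw [← hX0]
      have h := hXmul (σ (X p)) ((σ (X p))⁻¹ * p)
      rw [mul_inv_cancel_left, hσX] at h
      exact left_eq_add.1 h
    refine ⟨X p, η ⟨_, hmem⟩ - δ (X p), ?_⟩
    show ((σ (X p) * (ι (η ⟨_, hmem⟩ - δ (X p) + δ (X p)) : U) : U) : G) = x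
    rw [sub_add_cancel, hηinj (hι (η ⟨_, hmem⟩))]
    show ((σ (X p) * ((σ (X p))⁻¹ * p) : U) : G) = x
    rw [mul_inv_cancel_left, hp]
  · show (aU (km l) (σ a * (ι (b + δ a) : U)) : G) = _
    refine congrArg Subtype.val ?_
    rw [map_mul, hσk]
    refine congrArg (σ _ * ·) (congrArg Subtype.val (hηinj ?_ : actZ (km l) (ι (b + δ a)) = _))
    rw [hηk, hι, hι, hδk, mul_add]

end Cfsg.Agent.Lie.SuzukiUnique
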