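import Cfsg.Agent.Lib.Lie.SuzukiUnique.Poly

/-!
The functional equations of a Suzuki type group: the parameter vanishes up to duality and the inversion map is unique.
-/

set_option autoImplicit false
set_option linter.style.haveILetI false
set_option linter.unusedSectionVars false

namespace Cfsg.Agent.Lie.SuzukiUnique

variable {F : Type*} [Field F]

/-- The product of the coordinates. -/
def cmul (φ : F ≃+* F) (p q : F × F) : F × F := (p.1 + q.1, p.2 + q.2 + φ p.1 * q.1)

/-- The scaling. -/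
def csc (φ : F ≃+* F) (l : F) (p : F × F) : F × F := (l * p.1, l * φ l * p.2)

/-- The inversion map of a Suzuki type group in coordinates. -/
structure Eqs (φ : F ≃+* F) (e : F) (f : F × F → F × F) : Prop where
  psi_inj : ∀ a c : F, a * φ a = c * φ c → a = c
  irred : ∀ x : F, x * x + x + 1 ≠ 0
  f_zero : f (0, 0) = (0, 0)
  invol : ∀ p, f (f p) = p
  scale : ∀ l : F, l ≠ 0 → ∀ p, f (csc φ l p) = csc φ l⁻¹ (f p)
  f_z : f (0, 1) = (1, e)
  f_u : f (1, e + 1) = (1, e + 1)
  law_u : ∀ p, p ≠ (0, 0) → cmul φ (1, e) p ≠ (0, 0) → cmul φ (1, e) (f p) ≠ (0, 0) →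
    f (cmul φ (1, e) p) = cmul φ (0, 1) (f (cmul φ (1, e) (f p)))
  law_inv : ∀ p, p ≠ (0, 0) → cmul φ (1, e + 1) p ≠ (0, 0) → cmul φ (0, 1) (f p) ≠ (0, 0) →
    f (cmul φ (1, e + 1) p) = cmul φ (1, e + 1) (f (cmul φ (0, 1) (f p)))

namespace Eqs

variable [Fintype F] [CharP F 2] {φ : F ≃+* F} {e : F} {f : F × F → F × F} (H : Eqs φ e f)
include H

theorem psi_surj (b : F) : ∃ d : F, d * φ d = b :=
  (Finite.injective_iff_surjective.1 (fun a c h => H.psi_inj a c h : Function.Injective fun a : F => a * φ a)) b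

/-- The values on the centre. -/
theorem f_center {d b : F} (hb : b ≠ 0) (hd : d * φ d = b) : f (0, b) = (d⁻¹, e / b) := by
  have hd0 : d ≠ 0 := fun h => hb (by rw [← hd, h, zero_mul])
  have h := H.scale d hd0 (0, 1)
  rw [H.f_z] at h
  simp only [csc, mul_zero, mul_one, hd] at h
  rw [h, map_inv₀, ← mul_inv, hd, div_eq_inv_mul]

/-- The first equation. -/
theorem shift {d b : F} (hb : b ≠ 0) (hd : d * φ d = b) :
    (f (1, b + 1 + e)).1 = 1 + d * (f (1, b + e)).1 ∧
      (f (1, b + 1 + e)).2 = e + 1 + b * (f (1, b + e)).2 + d * (f (1, b + e)).1 := by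
  have hd0 : d ≠ 0 := fun h => hb (by rw [← hd, h, zero_mul])
  have hfy := H.f_center hb hd
  have h := H.law_inv (0, b) (fun h => hb (congrArg Prod.snd h)) (fun h => one_ne_zero (α := F) (by
    simpa [cmul] using congrArg Prod.fst h)) (by
    rw [hfy]
    intro h
    exact inv_ne_zero hd0 (by simpa [cmul] using congrArg Prod.fst h))
  have e1 : cmul φ (1, e + 1) (0, b) = (1, b + 1 + e) := by
    simp only [cmul, map_one, mul_zero, add_zero]
    exact Prod.ext rfl (by ring)
  have e2 : cmul φ (0, 1) (d⁻¹, e / b) = csc φ d⁻¹ (1, b + e) := by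
    simp only [cmul, csc, map_zero, zero_mul, zero_add, add_zero, mul_one, map_inv₀, ← mul_inv, hd]
    refine Prod.ext rfl ?_
    field_simp
  rw [e1, hfy, e2, H.scale _ (inv_ne_zero hd0), inv_inv] at h
  rw [h]
  simp only [cmul, csc, map_one, one_mul, hd, and_self]

theorem f_one_zero : f (1, 0 + e) = (0, 1) := by
  rw [zero_add, ← H.f_z, H.invol]

theorem f_one_one : f (1, 1 + e) = (1, e + 1) := by
  rw [add_comm, H.f_u]

/-- The values in general position. -/
theorem value {d d' b : F} (hb : b ≠ 0) (hb' : b + 1 ≠ 0) (hd : d * φ d = b) (hd' : d' * φ d' = b + 1) :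
    1 + d * d' ≠ 0 ∧ (f (1, b + e)).1 * (1 + d * d') = 1 + d' ∧
      (f (1, b + e)).2 * (1 + b * (b + 1)) = b * e + (b + 1) * (f (1, b + 1 + e)).1 + (f (1, b + e)).1 := by
  obtain ⟨h1, h2⟩ := H.shift hb hd
  obtain ⟨h3, h4⟩ := H.shift hb' hd'
  rw [show b + 1 + 1 = b by grind] at h3 h4
  refine ⟨fun h => H.irred b ?_, by grind, by grind⟩
  have h5 : d * d' = 1 := by grind
  have : b * (b + 1) = 1 := by
    rw [← hd', ← hd, show d * φ d * (d' * φ d') = d * d' * (φ d * φ d') by ring, ← map_mul, h5, map_one, one_mul]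
  grind

/-- The inversion map is determined by the parameters. -/
theorem unique {f' : F × F → F × F} (H' : Eqs φ e f') : f = f' := by
  funext ⟨a, c⟩
  rcases eq_or_ne a 0 with rfl | ha
  · rcases eq_or_ne c 0 with rfl | hc
    · rw [H.f_zero, H'.f_zero]
    · obtain ⟨d, hd⟩ := H.psi_surj c
      rw [H.f_center hc hd, H'.f_center hc hd]
  · have hψ : a * φ a ≠ 0 := mul_ne_zero ha ((map_ne_zero_iff _ φ.injective).2 ha)
    have hrep : (a, c) = csc φ a (1, c / (a * φ a) + e + e) := by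
      rw [add_assoc, CharTwo.add_self_eq_zero, add_zero]
      simp only [csc, mul_one]
      rw [mul_div_cancel₀ _ hψ]
    rw [hrep, H.scale a ha, H'.scale a ha]
    congr 1
    set b := c / (a * φ a) + e with hbdef
    clear_value b
    rcases eq_or_ne b 0 with rfl | hb
    · rw [H.f_one_zero, H'.f_one_zero]
    rcases eq_or_ne (b + 1) 0 with hb' | hb'
    · rw [show b = 1 by grind, H.f_one_one, H'.f_one_one]
    obtain ⟨d, hd⟩ := H.psi_surj b
    obtain ⟨d', hd'⟩ := H.psi_surj (b + 1)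
    obtain ⟨hne, hx, hy⟩ := H.value hb hb' hd hd'
    obtain ⟨-, hx', hy'⟩ := H'.value hb hb' hd hd'
    have hX : (f (1, b + e)).1 = (f' (1, b + e)).1 := mul_right_cancel₀ hne (hx.trans hx'.symm)
    obtain ⟨s1, -⟩ := H.shift hb hd
    obtain ⟨s1', -⟩ := H'.shift hb hd
    have hne' : 1 + b * (b + 1) ≠ 0 := fun h => H.irred b (by linear_combination h)
    refine Prod.ext hX (mul_right_cancel₀ hne' ?_)
    rw [hy, hy', s1, s1', hX]

/-- The linear relation between consecutive coordinates. -/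
theorem linear {a : F} (ha : a ≠ 0) (ha1 : 1 + a ≠ 0) : ∃ T d : F, d * φ d = T ∧
    T * ((1 + a) * (1 + φ a)) = e * (a + φ a) + a * (1 + φ a) ∧ (1 + a + a * d) * φ (1 + a + a * d) = T + 1 ∧
    (a * d) * ((T * ((1 + a) * (1 + φ a)) + e) * (a * φ a * ((1 + a) * (1 + φ a)) + T * ((1 + a) * (1 + φ a)) +
        (1 + a) * (1 + φ a)) + ((1 + a) * (1 + φ a) + e) *
          ((1 + a) * (1 + φ a) + T * ((1 + a) * (1 + φ a)) * (a * φ a))) =
      a * ((1 + a) * (1 + φ a) + T * ((1 + a) * (1 + φ a)) * (a * φ a)) + a * φ a * ((1 + a) * (1 + φ a)) +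
        T * ((1 + a) * (1 + φ a)) + (1 + a) * (1 + φ a) +
      ((T * ((1 + a) * (1 + φ a)) + e) * (a * φ a * ((1 + a) * (1 + φ a)) + T * ((1 + a) * (1 + φ a)) +
        (1 + a) * (1 + φ a)) + ((1 + a) * (1 + φ a) + e) *
          ((1 + a) * (1 + φ a) + T * ((1 + a) * (1 + φ a)) * (a * φ a))) := by
  have hy0 : φ a ≠ 0 := (map_ne_zero_iff _ φ.injective).2 ha
  have hy1 : 1 + φ a ≠ 0 := by rw [← map_one φ, ← map_add]; exact (map_ne_zero_iff _ φ.injective).2 ha1
  have hS0 : (1 + a) * (1 + φ a) ≠ 0 := mul_ne_zero ha1 hy1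
  obtain ⟨T, hT⟩ : ∃ T, T * ((1 + a) * (1 + φ a)) = e * (a + φ a) + a * (1 + φ a) :=
    ⟨_, div_mul_cancel₀ _ hS0⟩
  have hfy : f (a, a * φ a * (e + 1)) = (a⁻¹, (a * φ a)⁻¹ * (e + 1)) := by
    have h := H.scale a ha (1, e + 1)
    rw [H.f_u] at h
    simp only [csc, mul_one, map_inv₀, ← mul_inv] at h
    exact h
  have e1 : cmul φ (1, e) (a, a * φ a * (e + 1)) = csc φ (1 + a) (1, T + e) := by
    simp only [cmul, csc, map_one, one_mul, mul_one, map_add]
    exact Prod.ext rfl (by grind)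
  have e2 : cmul φ (1, e) (a⁻¹, (a * φ a)⁻¹ * (e + 1)) = csc φ ((1 + a) / a) (1, T + 1 + e) := by
    simp only [cmul, csc, map_one, one_mul, mul_one, map_div₀, map_add]
    refine Prod.ext (by field_simp; ring) ?_
    field_simp
    grind
  have h := H.law_u (a, a * φ a * (e + 1)) (fun h => ha (congrArg Prod.fst h)) (by
    rw [e1]; exact fun h => ha1 (by simpa [csc] using congrArg Prod.fst h)) (by
    rw [hfy, e2]; exact fun h => div_ne_zero ha1 ha (by simpa [csc] using congrArg Prod.fst h))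
  rw [e1, hfy, e2, H.scale _ ha1, H.scale _ (div_ne_zero ha1 ha)] at h
  simp only [cmul, csc, map_zero, zero_mul, zero_add, add_zero, inv_div, map_div₀, map_inv₀, map_add, map_one,
    Prod.mk.injEq] at h
  obtain ⟨g1, g2⟩ := h
  have g1' : (f (1, T + e)).1 = a * (f (1, T + 1 + e)).1 := by
    field_simp at g1
    exact g1
  have g2' : (f (1, T + e)).2 = a * φ a * (f (1, T + 1 + e)).2 + (1 + a) * (1 + φ a) := by
    field_simp at g2
    grind
  have hT0 : T ≠ 0 := fun h0 => by
    rw [h0, H.f_one_zero, zero_add, H.f_one_one, mul_one] at g1'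
    exact ha g1'.symm
  have hT1 : T + 1 ≠ 0 := fun h0 => by
    rw [show T = 1 by grind, H.f_one_one, show (1 : F) + 1 = 0 by grind, H.f_one_zero, mul_zero] at g1'
    exact one_ne_zero g1'
  obtain ⟨d, hd⟩ := H.psi_surj T
  obtain ⟨d', hd'⟩ := H.psi_surj (T + 1)
  obtain ⟨hne, hx, -⟩ := H.value hT0 hT1 hd hd'
  obtain ⟨s1, s2⟩ := H.shift hT0 hd
  obtain ⟨-, s4⟩ := H.shift hT1 hd'
  obtain ⟨s3, -⟩ := H.shift hT1 hd'
  rw [show T + 1 + 1 = T by grind] at s3 s4
  generalize hXd : (f (1, T + e)).1 = X at *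
  generalize hYd : (f (1, T + e)).2 = Y at *
  generalize hX'd : (f (1, T + 1 + e)).1 = X' at *
  generalize hY'd : (f (1, T + 1 + e)).2 = Y' at *
  have hXa : X * (1 + a * d) = a := by grind
  have had : 1 + a * d ≠ 0 := fun h0 => ha (by rw [← hXa, h0, mul_zero])
  have hdd : d' = 1 + a + a * d := by
    have : a * (1 + d * d') = (1 + d') * (1 + a * d) := by linear_combination (1 + a * d) * hx - (1 + d * d') * hXa
    grind
  refine ⟨T, d, hd, hT, hdd ▸ hd', ?_⟩
  have two : (2 : F) = 0 := CharTwo.two_eq_zero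
  have hA : Y' * (1 + T * (a * φ a)) = T * ((1 + a) * (1 + φ a)) + e + X' := by
    linear_combination s2 + T * g2' - s1 + T * (a * φ a) * Y' * two
  have hB : Y' * (a * φ a + T + 1) = (1 + a) * (1 + φ a) + e + X := by
    linear_combination g2' - s4 + s3 + (a * φ a * Y' - e - X) * two
  have hC : (T * ((1 + a) * (1 + φ a)) + e + X') * (a * φ a + T + 1) =
      ((1 + a) * (1 + φ a) + e + X) * (1 + T * (a * φ a)) := by
    rw [← hA, ← hB]; ring
  have hX1 : X' * (1 + a * d) = 1 := mul_left_cancel₀ ha (by rw [mul_one, ← mul_assoc, ← g1', hXa])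
  generalize (1 + a) * (1 + φ a) = S at *
  generalize a * φ a = M at *
  linear_combination (1 + a * d) * S * hC - (M * S + T * S + S) * hX1 + (S + T * S * M) * hXa +
    ((1 + a * d) * ((S + e) * (S + T * S * M)) - (M * S + T * S + S) -
      ((T * S + e) * (M * S + T * S + S) + (S + e) * (S + T * S * M))) * two

end Eqs

/-- The numerator. -/
def numE (e x y : F) : F :=
  x * ((1 + x) * (1 + y) + (e * (x + y) + x * (1 + y)) * (x * y)) + x * y * ((1 + x) * (1 + y)) +
    (e * (x + y) + x * (1 + y)) + (1 + x) * (1 + y) + rsE e x y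
where
  /-- The denominator without the variable. -/
  rsE (e x y : F) : F :=
    ((e * (x + y) + x * (1 + y)) + e) *
        (x * y * ((1 + x) * (1 + y)) + (e * (x + y) + x * (1 + y)) + (1 + x) * (1 + y)) +
      ((1 + x) * (1 + y) + e) * ((1 + x) * (1 + y) + (e * (x + y) + x * (1 + y)) * (x * y))

theorem quad_eq [CharP F 2] (e x y : F) :
    (x * numE.rsE e x y * (1 + x) + x * numE e x y) *
        (numE e x y * ((1 + x) * (1 + y)) * (1 + y) + y * (e * (x + y) + x * (1 + y)) * (x * numE.rsE e x y)) +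
      numE e x y * (x * numE.rsE e x y) * ((e * (x + y) + x * (1 + y)) + (1 + x) * (1 + y)) =
      ∑ l ∈ supp, cf e l.1 l.2 * x ^ l.1 * y ^ l.2 := by
  simp [supp, Finset.sum_insert, cf, numE, numE.rsE]
  grind

namespace Eqs

variable [Fintype F] [CharP F 2] {φ : F ≃+* F} {e : F} {f : F × F → F × F} (H : Eqs φ e f)
include H

/-- The parameter is zero or one. -/
theorem param {n r : ℕ} (hn : Odd n) (hn1 : 1 < n) (hF : Fintype.card F = 2 ^ n) (hr0 : 0 < r) (hrn : r < n)
    (hφ : ∀ x : F, φ x = x ^ 2 ^ r) : e = 0 ∨ e = 1 := by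
  refine zero_or_one e hn hn1 hF hr0 hrn fun a => ?_
  rw [← hφ]
  rcases eq_or_ne a 0 with rfl | ha
  · refine Finset.sum_eq_zero fun l hl => ?_
    rw [zero_pow (supp_left l hl).1.ne', mul_zero, zero_mul]
  rcases eq_or_ne (1 + a) 0 with ha1 | ha1
  · rw [show a = 1 by grind, map_one]
    simpa using sum_one e
  obtain ⟨T, d, hd, hT, hd', hlin⟩ := H.linear ha ha1
  rw [hT] at hlin
  rw [← quad_eq]
  have hnum : a * numE.rsE e a (φ a) * d = numE e a (φ a) := by
    simp only [numE, numE.rsE]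
    linear_combination hlin
  generalize numE e a (φ a) = nu at hnum ⊢
  generalize numE.rsE e a (φ a) = rs at hnum ⊢
  have hd'' : (1 + a + a * d) * (1 + φ a + φ a * φ d) = T + 1 := by
    rw [← hd']; simp only [map_add, map_mul, map_one]
  subst hnum
  have hq : (1 + a + a * d) * (d * ((1 + a) * (1 + φ a)) * (1 + φ a) + φ a * (e * (a + φ a) + a * (1 + φ a))) +
      d * ((e * (a + φ a) + a * (1 + φ a)) + (1 + a) * (1 + φ a)) = 0 := by
    linear_combination d * ((1 + a) * (1 + φ a)) * hd'' - (1 + a + a * d) * φ a * ((1 + a) * (1 + φ a)) * hd -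
      (1 + a + a * d) * φ a * hT + d * hT + d * ((e * (a + φ a) + a * (1 + φ a)) + (1 + a) * (1 + φ a)) *
        (CharTwo.two_eq_zero : (2 : F) = 0)
  linear_combination (a * rs) ^ 2 * hq

/-- With vanishing parameter the automorphism is a square root of the squaring map. -/
theorem sq_root (he : e = 0) (x : F) : φ (φ x) = x * x := by
  rcases eq_or_ne x 0 with rfl | ha
  · simp
  rcases eq_or_ne (1 + x) 0 with ha1 | ha1
  · rw [show x = 1 by grind]; simp
  obtain ⟨T, d, hd, hT, -, hlin⟩ := H.linear ha ha1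
  subst he
  have hy0 : φ x ≠ 0 := (map_ne_zero_iff _ φ.injective).2 ha
  have hy1 : 1 + φ x ≠ 0 := by rw [← map_one φ, ← map_add]; exact (map_ne_zero_iff _ φ.injective).2 ha1
  have hz1 : 1 + φ (φ x) ≠ 0 := by rw [← map_one φ, ← map_add]; exact (map_ne_zero_iff _ φ.injective).2 hy1
  have hT' : T * (1 + x) = x := mul_right_cancel₀ hy1 (by rw [mul_assoc, hT]; ring)
  rw [hT] at hlin
  have hx3 : 1 + x + x * x ≠ 0 := fun h => H.irred x (by linear_combination h)
  have hd1 : d * (x * (1 + φ x)) = φ x * (1 + x) :=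
    mul_right_cancel₀ (mul_ne_zero hy1 hx3) (by grind)
  have hd2 : φ d * (φ x * (1 + φ (φ x))) = φ (φ x) * (1 + φ x) := by
    simpa only [map_mul, map_add, map_one] using congrArg φ hd1
  have h2 : φ (φ x) * (1 + x) ^ 2 * (φ x * (1 + φ x)) = x * x * (1 + φ (φ x)) * (φ x * (1 + φ x)) := by grind
  have h3 := mul_right_cancel₀ (mul_ne_zero hy0 hy1) h2
  grind

end Eqs

end Cfsg.Agent.Lie.SuzukiUnique
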