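import Cfsg.Agent.Lib.Lie.SuzukiUnique.Equations
import Cfsg.Agent.Lib.Lie.SuzukiUnique.Coord

/-!
Frames of Suzuki type groups: the permutation group is determined by the field automorphism and the parameter.
-/

set_option autoImplicit false
set_option linter.style.haveILetI false
set_option linter.unusedSectionVars false

namespace Cfsg.Agent.Lie.SuzukiUnique

open MulAction

universe u v

section Perms

variable {F : Type*} [Field F]

/-- A translation on the standard point set. -/
def tFun (φ : F ≃+* F) (p : F × F) : Option (F × F) → Option (F × F) := Option.map (cmul φ p)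

/-- A scaling on the standard point set. -/
def kFun (φ : F ≃+* F) (l : Fˣ) : Option (F × F) → Option (F × F) := Option.map (csc φ (l : F))

open _root_.Classical in
/-- The swap on the standard point set. -/
noncomputable def wFun (f : F × F → F × F) : Option (F × F) → Option (F × F)
  | none => some (0, 0)
  | some y => if y = (0, 0) then none else some (f y)

/-- The standard generators. -/
def gens (φ : F ≃+* F) (f : F × F → F × F) : Set (Equiv.Perm (Option (F × F))) :=
  {σ | (∃ p, (σ : Option (F × F) → Option (F × F)) = tFun φ p) ∨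
    (∃ l : Fˣ, (σ : Option (F × F) → Option (F × F)) = kFun φ l) ∨
    (σ : Option (F × F) → Option (F × F)) = wFun f}

end Perms

variable {G : Type u} {Ω : Type v} [Group G] [MulAction G Ω] {F : Type} [Field F]

/-- A frame. -/
structure Frame (a b : Ω) (φ : F ≃+* F) (e : F) (co : F × F → G) (ka : Fˣ →* G) (w : G) : Prop where
  co_mul : ∀ p q, co p * co q = co (cmul φ p q)
  co_fix : ∀ p, co p • a = a
  reg : ∀ x : Ω, x ≠ a → ∃ p, co p • b = x
  inj : ∀ p q, co p • b = co q • b → p = q
  ab : a ≠ b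
  conj : ∀ (l : Fˣ) p, ka l * co p * (ka l)⁻¹ = co (csc φ (l : F) p)
  ka_a : ∀ l, ka l • a = a
  ka_b : ∀ l, ka l • b = b
  w_a : w • a = b
  w_w : w * w = 1
  w_ka : ∀ l, w * ka l * w = (ka l)⁻¹
  stab : ∀ g : G, g • a = a → ∃ p l, g = co p * ka l
  fund : w * co (0, 1) * w = co (1, e) * w * (co (1, e))⁻¹

namespace Frame

variable {a b : Ω} {φ : F ≃+* F} {e : F} {co : F × F → G} {ka : Fˣ →* G} {w : G} (H : Frame a b φ e co ka w)
include H

theorem w_b : w • b = a := by rw [← H.w_a, smul_smul, H.w_w, one_smul]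

theorem co_zero : co (0, 0) = 1 := by
  have h := H.co_mul (0, 0) (0, 0)
  rw [show cmul φ (0, 0) (0, 0) = ((0, 0) : F × F) by simp [cmul]] at h
  exact mul_eq_left.1 h

theorem co_smul_ne (p : F × F) : co p • b ≠ a := fun h =>
  H.ab (MulAction.injective (co p) (h.trans (H.co_fix p).symm)).symm

theorem w_co_ne {p : F × F} (hp : p ≠ (0, 0)) : w • co p • b ≠ a := fun h => hp (H.inj p (0, 0) (by
  rw [H.co_zero, one_smul]
  exact MulAction.injective w (h.trans H.w_b.symm)))

open _root_.Classical in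
/-- The inversion map of the frame. -/
noncomputable def inv (p : F × F) : F × F :=
  if hp : p = (0, 0) then (0, 0) else (H.reg _ (H.w_co_ne hp)).choose

theorem inv_spec {p : F × F} (hp : p ≠ (0, 0)) : co (H.inv p) • b = w • co p • b := by
  rw [inv, dif_neg hp]
  exact (H.reg _ (H.w_co_ne hp)).choose_spec

theorem inv_eq {p q : F × F} (hp : p ≠ (0, 0)) (h : w • co p • b = co q • b) : H.inv p = q :=
  H.inj _ _ ((H.inv_spec hp).trans h)

theorem inv_ne {p : F × F} (hp : p ≠ (0, 0)) : H.inv p ≠ (0, 0) := fun h => by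
  have h1 := H.inv_spec hp
  rw [h, H.co_zero, one_smul] at h1
  refine H.co_smul_ne p (MulAction.injective w ?_)
  show w • co p • b = w • a
  rw [← h1, H.w_a]

theorem law {p p1 p2 y : F × F} (h : w * co p * w = co p1 * w * co p2) (hy : y ≠ (0, 0))
    (hpy : cmul φ p y ≠ (0, 0)) (h2 : cmul φ p2 (H.inv y) ≠ (0, 0)) :
    H.inv (cmul φ p y) = cmul φ p1 (H.inv (cmul φ p2 (H.inv y))) := by
  refine H.inv_eq hpy ?_
  calc w • co (cmul φ p y) • b = (w * co p * w) • (w • co y • b) := by
        rw [← H.co_mul, smul_smul, smul_smul, smul_smul]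
        congr 1
        simp only [mul_assoc]
        rw [← mul_assoc w w, H.w_w, one_mul]
    _ = co p1 • w • co p2 • co (H.inv y) • b := by rw [← H.inv_spec hy, h, mul_smul, mul_smul]
    _ = co p1 • w • co (cmul φ p2 (H.inv y)) • b := by rw [smul_smul (co p2), H.co_mul]
    _ = co p1 • co (H.inv (cmul φ p2 (H.inv y))) • b := by rw [H.inv_spec h2]
    _ = co (cmul φ p1 (H.inv (cmul φ p2 (H.inv y)))) • b := by rw [smul_smul, H.co_mul]

theorem co_one_inv [CharP F 2] : (co (1, e))⁻¹ = co (1, e + 1) := inv_eq_of_mul_eq_one_right (by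
  rw [H.co_mul, show cmul φ (1, e) (1, e + 1) = ((0, 0) : F × F) by
    simp only [cmul, map_one, mul_one, Prod.mk.injEq]
    exact ⟨by grind, by grind⟩, H.co_zero])

/-- The inversion map satisfies the functional equations. -/
theorem eqs [CharP F 2] (hψ : ∀ x y : F, x * φ x = y * φ y → x = y) (hirr : ∀ x : F, x * x + x + 1 ≠ 0) :
    Eqs φ e H.inv := by
  have hz1 : ((0 : F), (1 : F)) ≠ (0, 0) := fun h => one_ne_zero (congrArg Prod.snd h)
  have hu1 : ((1 : F), e + 1) ≠ (0, 0) := fun h => one_ne_zero (congrArg Prod.fst h)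
  have hzz : co (0, 1) * co (0, 1) = 1 := by
    rw [H.co_mul, show cmul φ ((0 : F), (1 : F)) (0, 1) = ((0, 0) : F × F) by
      simp only [cmul, map_zero, zero_mul, add_zero, CharTwo.add_self_eq_zero], H.co_zero]
  have hU : w * co (1, e) * w = co (0, 1) * w * co (1, e) := by
    calc w * co (1, e) * w = w * (co (1, e) * w * (co (1, e))⁻¹) * co (1, e) := by group
      _ = w * (w * co (0, 1) * w) * co (1, e) := by rw [H.fund]
      _ = (w * w) * (co (0, 1) * w * co (1, e)) := by group
      _ = _ := by rw [H.w_w, one_mul]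
  have hV : w * co (1, e + 1) * w = co (1, e + 1) * w * co (0, 1) := by
    rw [← H.co_one_inv]
    have := congrArg (fun g => g⁻¹) hU
    simp only [mul_inv_rev, inv_eq_of_mul_eq_one_right H.w_w, inv_eq_of_mul_eq_one_right hzz, ← mul_assoc] at this
    exact this
  refine ⟨hψ, hirr, by rw [inv, dif_pos rfl], fun p => ?_, fun l hl p => ?_, ?_, ?_,
    fun p hp h1 h2 => H.law hU hp h1 h2, fun p hp h1 h2 => H.law hV hp h1 h2⟩
  · by_cases hp : p = (0, 0)
    · subst hp
      have h0 : H.inv (0, 0) = (0, 0) := by rw [inv, dif_pos rfl]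
      rw [h0, h0]
    · refine H.inv_eq (H.inv_ne hp) ?_
      rw [H.inv_spec hp, smul_smul w w, H.w_w, one_smul]
  · have h0 : ∀ m : F, csc φ m (0, 0) = (0, 0) := fun m => by simp [csc]
    by_cases hp : p = (0, 0)
    · subst hp
      rw [h0, inv, dif_pos rfl, h0]
    have hp' : csc φ l p ≠ (0, 0) := fun h => hp (by
      obtain ⟨x, y⟩ := p
      simp only [csc, Prod.mk.injEq, mul_eq_zero, hl, (map_ne_zero_iff _ φ.injective).2 hl, or_self,
        false_or] at h
      exact Prod.ext h.1 h.2)
    refine H.inv_eq hp' ?_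
    set m := Units.mk0 l hl with hm
    have e1 : co (csc φ l p) = ka m * co p * (ka m)⁻¹ := (H.conj m p).symm
    have e2 : co (csc φ l⁻¹ (H.inv p)) = ka m⁻¹ * co (H.inv p) * (ka m⁻¹)⁻¹ := by
      rw [H.conj, Units.val_inv_eq_inv_val, hm, Units.val_mk0]
    have hb : ∀ k, (ka k)⁻¹ • b = b := fun k => inv_smul_eq_iff.2 (H.ka_b k).symm
    rw [e1, e2, mul_smul, mul_smul, hb, mul_smul, mul_smul, hb, H.inv_spec hp, smul_smul w, smul_smul (ka m⁻¹)]
    congr 1
    calc w * ka m = (w * ka m * w) * w := by rw [mul_assoc _ w w, H.w_w, mul_one]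
      _ = ka m⁻¹ * w := by rw [H.w_ka, map_inv]
  · refine H.inv_eq hz1 ?_
    calc w • co (0, 1) • b = (w * co (0, 1) * w) • a := by rw [mul_smul, mul_smul, H.w_a]
      _ = co (1, e) • b := by
        rw [H.fund, mul_smul, mul_smul, H.co_one_inv, H.co_fix, H.w_a]
  · refine H.inv_eq hu1 ?_
    calc w • co (1, e + 1) • b = (w * co (1, e + 1) * w) • a := by rw [mul_smul, mul_smul, H.w_a]
      _ = co (1, e + 1) • b := by rw [hV, mul_smul, mul_smul, H.co_fix, H.w_a]

/-- The dual frame. -/
theorem dual [CharP F 2] (he : e = 1) :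
    Frame a b φ.symm 0 (fun p => co (p.1, φ p.2 + p.1 * φ p.1)) ka w := by
  subst he
  refine ⟨fun p q => ?_, fun p => H.co_fix _, fun x hx => ?_, fun p q h => ?_, H.ab, fun l p => ?_, H.ka_a, H.ka_b,
    H.w_a, H.w_w, H.w_ka, fun g hg => ?_, ?_⟩
  · rw [H.co_mul]
    refine congrArg co ?_
    simp only [cmul, map_add, map_mul, RingEquiv.apply_symm_apply, Prod.mk.injEq, true_and]
    grind
  · obtain ⟨p, hp⟩ := H.reg x hx
    refine ⟨(p.1, φ.symm (p.2 + p.1 * φ p.1)), ?_⟩
    dsimp only
    rwa [RingEquiv.apply_symm_apply, add_assoc, CharTwo.add_self_eq_zero, add_zero]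
  · have h1 := H.inj _ _ h
    simp only [Prod.mk.injEq] at h1
    obtain ⟨h2, h3⟩ := h1
    rw [h2] at h3
    exact Prod.ext h2 (φ.injective (add_right_cancel h3))
  · rw [H.conj]
    refine congrArg co ?_
    simp only [csc, map_mul, RingEquiv.apply_symm_apply, Prod.mk.injEq, true_and]
    ring
  · obtain ⟨p, l, hpl⟩ := H.stab g hg
    refine ⟨(p.1, φ.symm (p.2 + p.1 * φ p.1)), l, ?_⟩
    dsimp only
    rwa [RingEquiv.apply_symm_apply, add_assoc, CharTwo.add_self_eq_zero, add_zero]
  · simp only [map_one, map_zero, zero_mul, add_zero, zero_add, mul_one]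
    exact H.fund

open _root_.Classical in
/-- The group is the standard permutation group. -/
theorem model [Finite G] [FaithfulSMul G Ω] :
    Nonempty (G ≃* Subgroup.closure (gens φ H.inv)) := by
  let toΩ : Option (F × F) → Ω := fun o => o.elim a (fun p => co p • b)
  have hbij : Function.Bijective toΩ := by
    refine ⟨fun o o' h => ?_, fun x => ?_⟩
    · rcases o with _ | p <;> rcases o' with _ | q
      · rfl
      · exact absurd h.symm (H.co_smul_ne q)
      · exact absurd h (H.co_smul_ne p)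
      · rw [H.inj p q h]
    · by_cases hx : x = a
      · exact ⟨none, hx.symm⟩
      · obtain ⟨p, hp⟩ := H.reg x hx
        exact ⟨some p, hp⟩
  set ε : Option (F × F) ≃ Ω := Equiv.ofBijective toΩ hbij with hε
  let ρ : G →* Equiv.Perm (Option (F × F)) :=
    (ε.symm.permCongrHom).toMonoidHom.comp (MulAction.toPermHom G Ω)
  have hρ : ∀ g o, toΩ (ρ g o) = g • toΩ o := fun g o => ε.apply_symm_apply _
  have hρinj : Function.Injective ρ := fun g g' h => FaithfulSMul.eq_of_smul_eq_smul (α := Ω) fun x => by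
    obtain ⟨o, rfl⟩ := hbij.2 x
    rw [← hρ, ← hρ, h]
  have ext' : ∀ (g : G) (F' : Option (F × F) → Option (F × F)), (∀ o, toΩ (F' o) = g • toΩ o) →
      (ρ g : Option (F × F) → Option (F × F)) = F' := fun g F' hF => funext fun o =>
    hbij.1 ((hρ g o).trans (hF o).symm)
  have ht : ∀ p, (ρ (co p) : Option (F × F) → Option (F × F)) = tFun φ p := fun p => ext' _ _ fun o => by
    rcases o with _ | q
    · exact (H.co_fix p).symm
    · show co (cmul φ p q) • b = co p • co q • b
      rw [smul_smul, H.co_mul]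
  have hk : ∀ l, (ρ (ka l) : Option (F × F) → Option (F × F)) = kFun φ l := fun l => ext' _ _ fun o => by
    rcases o with _ | q
    · exact (H.ka_a l).symm
    · show co (csc φ (l : F) q) • b = ka l • co q • b
      rw [← H.conj, mul_smul, mul_smul, inv_smul_eq_iff.2 (H.ka_b l).symm]
  have hw : (ρ w : Option (F × F) → Option (F × F)) = wFun H.inv := ext' _ _ fun o => by
    rcases o with _ | q
    · show co (0, 0) • b = w • a
      rw [H.co_zero, one_smul, H.w_a]
    · show toΩ (if q = (0, 0) then none else some (H.inv q)) = w • co q • b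
      split
      · next hq =>
        rw [hq, H.co_zero, one_smul, H.w_b]
        rfl
      · next hq => exact H.inv_spec hq
  have hgen : Subgroup.closure (Set.range co ∪ Set.range ka ∪ {w}) = ⊤ := by
    refine eq_top_iff.2 fun g _ => ?_
    set S := Subgroup.closure (Set.range co ∪ Set.range ka ∪ {w})
    have hco : ∀ p, co p ∈ S := fun p => Subgroup.subset_closure (Or.inl (Or.inl ⟨p, rfl⟩))
    have hka : ∀ l, ka l ∈ S := fun l => Subgroup.subset_closure (Or.inl (Or.inr ⟨l, rfl⟩))
    have hwS : w ∈ S := Subgroup.subset_closure (Or.inr rfl)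
    have hst : ∀ g : G, g • a = a → g ∈ S := fun g hg => by
      obtain ⟨p, l, rfl⟩ := H.stab g hg
      exact S.mul_mem (hco p) (hka l)
    by_cases hg : g • a = a
    · exact hst g hg
    obtain ⟨p, hp⟩ := H.reg _ hg
    have h1 : w * (co p)⁻¹ * g ∈ S := hst _ (by
      rw [mul_smul, mul_smul, ← hp, inv_smul_smul, H.w_b])
    have h2 := S.mul_mem (hco p) (S.mul_mem hwS h1)
    rwa [show co p * (w * (w * (co p)⁻¹ * g)) = co p * (w * w) * (co p)⁻¹ * g by group, H.w_w, mul_one,
      mul_inv_cancel, one_mul] at h2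
  have himg : ρ '' (Set.range co ∪ Set.range ka ∪ {w}) = gens φ H.inv := by
    ext σ
    constructor
    · rintro ⟨g, ((⟨p, rfl⟩ | ⟨l, rfl⟩) | hg), rfl⟩
      · exact Or.inl ⟨p, ht p⟩
      · exact Or.inr (Or.inl ⟨l, hk l⟩)
      · exact Or.inr (Or.inr (by rw [hg, hw]))
    · rintro (⟨p, hp⟩ | ⟨l, hl⟩ | h)
      · exact ⟨co p, Or.inl (Or.inl ⟨p, rfl⟩), Equiv.coe_fn_injective ((ht p).trans hp.symm)⟩
      · exact ⟨ka l, Or.inl (Or.inr ⟨l, rfl⟩), Equiv.coe_fn_injective ((hk l).trans hl.symm)⟩
      · exact ⟨w, Or.inr rfl, Equiv.coe_fn_injective (hw.trans h.symm)⟩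
  have hrange : ρ.range = Subgroup.closure (gens φ H.inv) := by
    rw [MonoidHom.range_eq_map, ← hgen, MonoidHom.map_closure, himg]
  exact ⟨(MonoidHom.ofInjective hρinj).trans (MulEquiv.subgroupCongr hrange)⟩

end Frame

end Cfsg.Agent.Lie.SuzukiUnique
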