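import Mathlib

/-!
A polynomial condition in a Frobenius power which forces the parameter of a Suzuki type group to be zero or one.
-/

set_option autoImplicit false
set_option linter.style.haveILetI false

namespace Cfsg.Agent.Lie.SuzukiUnique

open Polynomial

variable {F : Type*} [Field F] [Fintype F]

/-- The exponents of the condition. -/
def supp : Finset (ℕ × ℕ) := {(1, 2), (1, 3), (1, 4), (1, 5), (2, 2), (2, 3), (2, 4), (2, 5), (2, 6), (3, 0), (3, 1), (3, 2), (3, 4), (3, 5), (3, 6), (4, 0), (4, 1), (4, 2), (4, 3), (4, 4), (4, 5), (4, 6), (5, 0), (5, 1), (5, 2), (5, 3), (5, 4), (5, 5), (5, 6), (6, 0), (6, 1), (6, 2), (6, 4), (6, 5), (6, 6), (7, 0), (7, 1), (7, 2), (7, 3), (7, 4), (8, 1), (8, 2), (8, 3), (8, 4)}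

/-- The coefficients of the condition. -/
def cf (e : F) : ℕ → ℕ → F
  | 1, 2 => e + e ^ 2 + e ^ 3 + e ^ 4
  | 1, 3 => e + e ^ 2 + e ^ 3 + e ^ 5
  | 1, 4 => e + e ^ 2
  | 1, 5 => e + e ^ 2 + e ^ 4 + e ^ 5
  | 2, 2 => e ^ 3 + e ^ 5
  | 2, 3 => e + e ^ 3
  | 2, 4 => e + e ^ 5
  | 2, 5 => e + e ^ 4
  | 2, 6 => e + e ^ 4
  | 3, 0 => e ^ 3 + e ^ 4
  | 3, 1 => e ^ 2 + e ^ 5
  | 3, 2 => e ^ 2 + e ^ 4
  | 3, 4 => e ^ 3 + e ^ 5
  | 3, 5 => e ^ 2 + e ^ 3 + e ^ 4 + e ^ 5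
  | 3, 6 => e ^ 2 + e ^ 3 + e ^ 4 + e ^ 5
  | 4, 0 => e + e ^ 5
  | 4, 1 => e + e ^ 3
  | 4, 2 => e ^ 3 + e ^ 4
  | 4, 3 => e ^ 2 + e ^ 5
  | 4, 4 => e + e ^ 2 + e ^ 4 + e ^ 5
  | 4, 5 => e + e ^ 2 + e ^ 4 + e ^ 5
  | 4, 6 => e ^ 2 + e ^ 4
  | 5, 0 => e ^ 2 + e ^ 4
  | 5, 1 => e + e ^ 2 + e ^ 4 + e ^ 5
  | 5, 2 => e + e ^ 2 + e ^ 4 + e ^ 5
  | 5, 3 => e ^ 2 + e ^ 5
  | 5, 4 => e ^ 3 + e ^ 4
  | 5, 5 => e + e ^ 3
  | 5, 6 => e + e ^ 5
  | 6, 0 => e ^ 2 + e ^ 3 + e ^ 4 + e ^ 5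
  | 6, 1 => e ^ 2 + e ^ 3 + e ^ 4 + e ^ 5
  | 6, 2 => e ^ 3 + e ^ 5
  | 6, 4 => e ^ 2 + e ^ 4
  | 6, 5 => e ^ 2 + e ^ 5
  | 6, 6 => e ^ 3 + e ^ 4
  | 7, 0 => e + e ^ 4
  | 7, 1 => e + e ^ 4
  | 7, 2 => e + e ^ 5
  | 7, 3 => e + e ^ 3
  | 7, 4 => e ^ 3 + e ^ 5
  | 8, 1 => e + e ^ 2 + e ^ 4 + e ^ 5
  | 8, 2 => e + e ^ 2
  | 8, 3 => e + e ^ 2 + e ^ 3 + e ^ 5
  | 8, 4 => e + e ^ 2 + e ^ 3 + e ^ 4
  | _, _ => 0

/-- Exponents are reduced modulo the order of the multiplicative group. -/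
def rd (F : Type*) [Fintype F] (m : ℕ) : ℕ := (m - 1) % (Fintype.card F - 1) + 1

theorem pow_rd (a : F) {m : ℕ} (hm : 0 < m) : a ^ rd F m = a ^ m := by
  rcases eq_or_ne a 0 with rfl | ha
  · rw [zero_pow (by rw [rd]; omega), zero_pow hm.ne']
  · conv_rhs => rw [show m = (m - 1) % (Fintype.card F - 1) + 1 +
      (Fintype.card F - 1) * ((m - 1) / (Fintype.card F - 1)) by
        have := Nat.mod_add_div (m - 1) (Fintype.card F - 1); omega]
    rw [pow_add _ ((m - 1) % (Fintype.card F - 1) + 1), pow_mul, FiniteField.pow_card_sub_one_eq_one a ha,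
      one_pow, mul_one, rd]

open _root_.Classical in
theorem coeff_zero (e : F) (E : ℕ × ℕ → ℕ) (hE : ∀ l ∈ supp, 0 < E l)
    (hz : ∀ a : F, ∑ l ∈ supp, cf e l.1 l.2 * a ^ E l = 0) (k : ℕ) :
    ∑ l ∈ supp, (if rd F (E l) = k then cf e l.1 l.2 else 0) = 0 := by
  set P : F[X] := ∑ l ∈ supp, C (cf e l.1 l.2) * X ^ rd F (E l) with hP
  have hdeg : P.natDegree < Fintype.card F := by
    refine lt_of_le_of_lt (natDegree_sum_le_of_forall_le _ _ (n := Fintype.card F - 1) fun l _ => ?_)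
      (Nat.sub_lt Fintype.card_pos one_pos)
    refine (natDegree_C_mul_X_pow_le _ _).trans ?_
    have := Fintype.one_lt_card (α := F)
    have := Nat.mod_lt (E l - 1) (show 0 < Fintype.card F - 1 by omega)
    unfold rd
    omega
  have hP0 : P = 0 := eq_zero_of_natDegree_lt_card_of_eval_eq_zero P (f := fun a : F => a)
    Function.injective_id (fun a => by
      rw [hP, eval_finsetSum]
      refine Eq.trans (Finset.sum_congr rfl fun l hl => ?_) (hz a)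
      rw [eval_mul, eval_C, eval_pow, eval_X, pow_rd _ (hE l hl)]) hdeg
  have := congrArg (fun p : F[X] => p.coeff k) hP0
  simp only [hP, finsetSum_coeff, coeff_C_mul_X_pow, coeff_zero] at this
  refine Eq.trans (Finset.sum_congr rfl fun l _ => ?_) this
  simp only [eq_comm]

theorem supp_left : ∀ l ∈ supp, 0 < l.1 ∧ l.1 ≤ 8 ∧ l.2 ≤ 6 ∧ (l.1 = 8 → l.2 ≤ 4) ∧
    (l ≠ (3, 0) → l.2 = 0 ∧ 3 < l.1 ∨ 2 ≤ l.2 ∨ l.2 = 1 ∧ 2 ≤ l.1) ∧
    (l ≠ (1, 2) → l.1 = 1 ∧ 3 ≤ l.2 ∨ 3 ≤ l.1 ∨ l.1 = 2 ∧ 1 ≤ l.2) := by decide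

theorem rd_ne {m k : ℕ} (hm : 0 < m) (hk : 0 < k) (hk' : k < Fintype.card F) (hne : m ≠ k)
    (hlt : m < k + (Fintype.card F - 1)) : rd F m ≠ k := by
  intro h
  unfold rd at h
  rcases lt_or_ge (m - 1) (Fintype.card F - 1) with h1 | h1
  · rw [Nat.mod_eq_of_lt h1] at h; omega
  · rw [Nat.mod_eq_sub_mod h1, Nat.mod_eq_of_lt (by omega)] at h; omega

/-- The condition with a small Frobenius power. -/
theorem left_key (e : F) {t : ℕ} (ht : 2 ≤ t) (hq : 7 * t + 4 ≤ Fintype.card F)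
    (hz : ∀ a : F, ∑ l ∈ supp, cf e l.1 l.2 * a ^ (l.1 + t * l.2) = 0) : e ^ 3 + e ^ 4 = 0 := by
  classical
  have h := coeff_zero e (fun l => l.1 + t * l.2) (fun l hl => by have := (supp_left l hl).1; omega) hz 3
  have hmem : ((3, 0) : ℕ × ℕ) ∈ supp := by decide
  rw [Finset.sum_eq_single_of_mem _ hmem (fun l hl hne => if_neg ?_)] at h
  · rw [if_pos (by
      show rd F (3 + t * 0) = 3
      unfold rd
      simp only [mul_zero]
      rw [Nat.mod_eq_of_lt (by omega)]; norm_num)] at h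
    exact h
  · obtain ⟨h1, h2, h3, h8, h4, -⟩ := supp_left l hl
    have h3' : t * l.2 ≤ t * 6 := Nat.mul_le_mul_left t h3
    have hb : l.1 + t * l.2 < 3 + (Fintype.card F - 1) := by
      rcases eq_or_ne l.1 8 with h5 | h5
      · have : t * l.2 ≤ t * 4 := Nat.mul_le_mul_left t (h8 h5)
        omega
      · omega
    refine rd_ne (by omega) (by omega) (by omega) ?_ hb
    rcases h4 hne with ⟨h5, h6⟩ | h5 | ⟨h5, h6⟩
    · rw [h5]; omega
    · have : t * 2 ≤ t * l.2 := Nat.mul_le_mul_left t h5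
      omega
    · rw [h5]; omega

/-- The condition with a large Frobenius power. -/
theorem right_key (e : F) {t : ℕ} (ht : 2 ≤ t) (hq : 7 * t + 4 ≤ Fintype.card F)
    (hz : ∀ a : F, ∑ l ∈ supp, cf e l.1 l.2 * a ^ (t * l.1 + l.2) = 0) : e + e ^ 2 + e ^ 3 + e ^ 4 = 0 := by
  classical
  have h := coeff_zero e (fun l => t * l.1 + l.2) (fun l hl => by
    have := Nat.mul_pos (show 0 < t by omega) (supp_left l hl).1
    omega) hz (t + 2)
  have hmem : ((1, 2) : ℕ × ℕ) ∈ supp := by decide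
  rw [Finset.sum_eq_single_of_mem _ hmem (fun l hl hne => if_neg ?_)] at h
  · rw [if_pos (by
      show rd F (t * 1 + 2) = t + 2
      unfold rd
      rw [mul_one, Nat.mod_eq_of_lt (by omega)]
      omega)] at h
    exact h
  · obtain ⟨h1, h2, h3, h8, -, h4⟩ := supp_left l hl
    have h2' : t * l.1 ≤ t * 8 := Nat.mul_le_mul_left t h2
    have h1' : t * 1 ≤ t * l.1 := Nat.mul_le_mul_left t h1
    refine rd_ne (by omega) (by omega) (by omega) ?_ ?_
    · rcases h4 hne with ⟨h5, h6⟩ | h5 | ⟨h5, h6⟩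
      · rw [h5]; omega
      · have : t * 3 ≤ t * l.1 := Nat.mul_le_mul_left t h5
        omega
      · rw [h5]; omega
    · rcases eq_or_ne l.1 8 with h5 | h5
      · have := h8 h5
        omega
      · have : t * l.1 ≤ t * 7 := Nat.mul_le_mul_left t (by omega)
        omega

/-- The condition over the field with eight elements. -/
theorem eight_key (e : F) {t : ℕ} (ht : t = 2 ∨ t = 4) (hq : Fintype.card F = 8) [CharP F 2]
    (hz : ∀ a : F, ∑ l ∈ supp, cf e l.1 l.2 * a ^ (l.1 + t * l.2) = 0) : e ^ 2 + e ^ 3 = 0 ∨ e + e ^ 2 = 0 := by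
  classical
  have h := coeff_zero e (fun l => l.1 + t * l.2) (fun l hl => by have := (supp_left l hl).1; omega) hz 2
  simp only [rd, hq] at h
  rw [← Finset.sum_filter] at h
  rcases ht with rfl | rfl
  · left
    have hf : supp.filter (fun l => (l.1 + 2 * l.2 - 1) % (8 - 1) + 1 = 2) = {(1, 4), (4, 6), (5, 2), (6, 5), (7, 1), (8, 4)} := by decide
    rw [hf] at h
    simp [Finset.sum_insert, cf] at h
    grind
  · right
    have hf : supp.filter (fun l => (l.1 + 4 * l.2 - 1) % (8 - 1) + 1 = 2) = {(1, 2), (3, 5), (4, 3), (5, 1), (6, 6), (7, 4), (8, 2)} := by decide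
    rw [hf] at h
    simp [Finset.sum_insert, cf] at h
    grind

theorem sum_one (e : F) [CharP F 2] : ∑ l ∈ supp, cf e l.1 l.2 = 0 := by
  simp [supp, Finset.sum_insert, cf]
  grind

/-- The parameter is zero or one. -/
theorem zero_or_one [CharP F 2] (e : F) {n r : ℕ} (hn : Odd n) (hn1 : 1 < n) (hF : Fintype.card F = 2 ^ n)
    (hr0 : 0 < r) (hrn : r < n) (hz : ∀ a : F, ∑ l ∈ supp, cf e l.1 l.2 * a ^ l.1 * (a ^ 2 ^ r) ^ l.2 = 0) :
    e = 0 ∨ e = 1 := by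
  have key : e ^ 3 * (1 + e) = 0 ∨ e * (1 + e) ^ 3 = 0 ∨ e ^ 2 * (1 + e) = 0 ∨ e * (1 + e) = 0 := by
    have hz' : ∀ a : F, ∑ l ∈ supp, cf e l.1 l.2 * a ^ (l.1 + 2 ^ r * l.2) = 0 := fun a => by
      refine Eq.trans (Finset.sum_congr rfl fun l _ => ?_) (hz a)
      rw [pow_add, pow_mul, mul_assoc]
    obtain ⟨m, rfl⟩ := hn
    by_cases hm : m = 1
    · subst hm
      have hr : r = 1 ∨ r = 2 := by omega
      have h8 : Fintype.card F = 8 := by rw [hF]; norm_num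
      rcases eight_key e (t := 2 ^ r) (by rcases hr with rfl | rfl <;> norm_num) h8 hz' with h | h
      · exact Or.inr (Or.inr (Or.inl (by rw [← h]; ring)))
      · exact Or.inr (Or.inr (Or.inr (by rw [← h]; ring)))
    have hbound : ∀ s : ℕ, 0 < s → s ≤ m → 2 ≤ 2 ^ s ∧ 7 * 2 ^ s + 4 ≤ Fintype.card F := by
      intro s hs0 hs
      have h1 : 2 ≤ 2 ^ s := le_trans (by norm_num) (Nat.pow_le_pow_right two_pos hs0)
      have h2 : 2 ^ s ≤ 2 ^ m := Nat.pow_le_pow_right two_pos hs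
      have h4 : 4 ≤ 2 ^ m := le_trans (by norm_num) (Nat.pow_le_pow_right two_pos (show 2 ≤ m by omega))
      refine ⟨h1, ?_⟩
      rw [hF, pow_succ, two_mul, pow_add]
      rcases lt_or_ge (2 ^ m) 5 with h5 | h5
      · have : 2 ^ m = 4 := by omega
        rw [this]
        omega
      · nlinarith
    rcases le_or_gt r m with hle | hgt
    · obtain ⟨h1, h2⟩ := hbound r hr0 hle
      exact Or.inl (by rw [← left_key e h1 h2 hz']; ring)
    · obtain ⟨h1, h2⟩ := hbound (2 * m + 1 - r) (by omega) (by omega)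
      refine Or.inr (Or.inl ?_)
      have := right_key e h1 h2 (fun a => by
        refine Eq.trans (Finset.sum_congr rfl fun l _ => ?_) (hz (a ^ 2 ^ (2 * m + 1 - r)))
        rw [← pow_mul a (2 ^ (2 * m + 1 - r)) (2 ^ r), ← pow_add 2, Nat.sub_add_cancel hrn.le, ← hF,
          FiniteField.pow_card, ← pow_mul, mul_assoc, ← pow_add])
      rw [← this]
      grind
  have h2 : e = 0 ∨ 1 + e = 0 := by
    rcases key with h | h | h | h <;> rcases mul_eq_zero.1 h with h' | h' <;>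
      first
        | exact Or.inl h'
        | exact Or.inr h'
        | exact Or.inl (eq_zero_of_pow_eq_zero h')
        | exact Or.inr (eq_zero_of_pow_eq_zero h')
  exact h2.imp_right fun h => by
    rw [← CharTwo.neg_eq (1 : F)]
    exact eq_neg_of_add_eq_zero_right h

end Cfsg.Agent.Lie.SuzukiUnique
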